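import Cfsg.Agent.J4Rep.Pack

/-!
# Linear maps on bit vectors

Additive maps on numbers, sums over lists, and the square of a sum of commuting translates.
-/

set_option autoImplicit false

namespace Cfsg.Agent.J4Out

open Cfsg.Agent.J4Rep Cfsg.Agent.CosetCert

/-- Every number below `n`. -/
noncomputable def allB (f : Nat → Bool) (n : Nat) : Bool :=
  Nat.rec (motive := fun _ => Bool) true (fun i ih => gate ih (f i)) n

theorem allB_iff (f : Nat → Bool) : ∀ n, allB f n = true ↔ ∀ i < n, f i = true := by
  intro n
  induction n with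
  | zero => simp [allB]
  | succ n ih =>
    show gate (allB f n) (f n) = true ↔ _
    rw [gate_eq, Bool.and_eq_true, ih, Nat.forall_lt_succ_right]

/-- Every entry of a list. -/
noncomputable def allL {α : Type*} (f : α → Bool) (l : List α) : Bool :=
  List.rec (motive := fun _ => Bool) true (fun a _ ih => gate (f a) ih) l

theorem allL_iff {α : Type*} (f : α → Bool) : ∀ l, allL f l = true ↔ ∀ a ∈ l, f a = true := by
  intro l
  induction l with
  | nil => simp [allL]
  | cons a l ih =>
    show gate (f a) (allL f l) = true ↔ _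
    rw [gate_eq, Bool.and_eq_true, ih, List.forall_mem_cons]

/-- The sum of the values of `f` at the entries of `l`. -/
noncomputable def xs {α : Type*} (f : α → Nat) (l : List α) : Nat :=
  List.rec (motive := fun _ => Nat) 0 (fun a _ ih => force ih fun r => Nat.xor (f a) r) l

theorem xs_nil {α : Type*} (f : α → Nat) : xs f [] = 0 := rfl

theorem xs_cons {α : Type*} (f : α → Nat) (a : α) (l : List α) :
    xs f (a :: l) = f a ^^^ xs f l := by
  show force (xs f l) (fun r => Nat.xor (f a) r) = _
  rw [force_eq]; rfl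

theorem xs_congr {α : Type*} {f g : α → Nat} : ∀ {l : List α}, (∀ a ∈ l, f a = g a) →
    xs f l = xs g l := by
  intro l
  induction l with
  | nil => intro; rfl
  | cons a l ih =>
    intro h
    rw [xs_cons, xs_cons, h a List.mem_cons_self, ih fun x hx => h x (List.mem_cons_of_mem _ hx)]

theorem xs_lt {α : Type*} {d : Nat} {f : α → Nat} : ∀ {l : List α}, (∀ a ∈ l, f a < 2 ^ d) →
    xs f l < 2 ^ d := by
  intro l
  induction l with
  | nil => intro; exact Nat.two_pow_pos d
  | cons a l ih =>
    intro h
    rw [xs_cons]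
    exact Nat.xor_lt_two_pow (h a List.mem_cons_self) (ih fun x hx => h x (List.mem_cons_of_mem _ hx))

theorem map_zero_of_add {L : Nat → Nat} (h : ∀ a b, L (a ^^^ b) = L a ^^^ L b) : L 0 = 0 := by
  have h0 := h 0 0
  rwa [Nat.xor_self, Nat.xor_self] at h0

/-- An additive map applied to a sum. -/
theorem map_xs {α : Type*} {L : Nat → Nat} (h : ∀ a b, L (a ^^^ b) = L a ^^^ L b) (f : α → Nat)
    (l : List α) : L (xs f l) = xs (fun a => L (f a)) l := by
  induction l with
  | nil => exact map_zero_of_add h
  | cons a l ih => rw [xs_cons, xs_cons, h, ih]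

theorem xor_xor_xor_comm' (a b c d : Nat) : a ^^^ b ^^^ (c ^^^ d) = a ^^^ c ^^^ (b ^^^ d) := by
  ac_rfl

theorem xs_xor {α : Type*} (f g : α → Nat) (l : List α) :
    xs (fun a => f a ^^^ g a) l = xs f l ^^^ xs g l := by
  induction l with
  | nil => simp [xs_nil]
  | cons a l ih => rw [xs_cons, xs_cons, xs_cons, ih, xor_xor_xor_comm']

/-- The square of a sum of commuting additive maps is the sum of the squares. -/
theorem xs_sq {α : Type*} (T : α → Nat → Nat) (hT : ∀ a u v, T a (u ^^^ v) = T a u ^^^ T a v)
    (v : Nat) (l : List α) (hc : ∀ a ∈ l, ∀ b ∈ l, T a (T b v) = T b (T a v)) :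
    xs (fun a => T a (xs (fun b => T b v) l)) l = xs (fun a => T a (T a v)) l := by
  induction l with
  | nil => rfl
  | cons a l ih =>
    rw [xs_cons, xs_cons, xs_cons]
    have h1 : xs (fun x => T x (T a v ^^^ xs (fun b => T b v) l)) l =
        xs (fun x => T x (T a v)) l ^^^ xs (fun x => T x (xs (fun b => T b v) l)) l := by
      rw [← xs_xor]
      exact xs_congr fun x _ => hT x _ _
    have h2 : xs (fun x => T x (T a v)) l = T a (xs (fun b => T b v) l) := by
      rw [map_xs (hT a)]
      exact xs_congr fun x hx => hc x (List.mem_cons_of_mem _ hx) a List.mem_cons_self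
    rw [h1, h2, ih fun x hx y hy => hc x (List.mem_cons_of_mem _ hx) y (List.mem_cons_of_mem _ hy),
      hT a, Nat.xor_assoc, ← Nat.xor_assoc (T a (xs (fun b => T b v) l)), Nat.xor_self,
      Nat.zero_xor]

theorem xs_const {α : Type*} (v : Nat) (l : List α) :
    xs (fun _ => v) l = if l.length % 2 = 1 then v else 0 := by
  induction l with
  | nil => rfl
  | cons a l ih =>
    rw [xs_cons, ih, List.length_cons]
    rcases Nat.mod_two_eq_zero_or_one l.length with h | h
    · rw [if_neg (by omega), if_pos (by omega), Nat.xor_zero]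
    · rw [if_pos h, if_neg (by omega), Nat.xor_self]

/-- Two additive maps agreeing on the unit vectors agree below `2 ^ d`. -/
theorem eq_of_units {f g : Nat → Nat} (hf : ∀ a b, f (a ^^^ b) = f a ^^^ f b)
    (hg : ∀ a b, g (a ^^^ b) = g a ^^^ g b) {d : Nat} (h : ∀ i < d, f (2 ^ i) = g (2 ^ i))
    {v : Nat} (hv : v < 2 ^ d) : f v = g v := by
  have hz := eq_self_of_basis (f := fun u => u ^^^ (f u ^^^ g u))
    (fun a b => by simp only [hf, hg]; ac_rfl) d
    (fun i hi => by simp only [h i hi, Nat.xor_self, Nat.xor_zero]) v hv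
  have : f v ^^^ g v = 0 := by
    have := congrArg (fun u => v ^^^ u) hz
    simpa [← Nat.xor_assoc] using this
  exact Nat.xor_eq_zero_iff.1 this

/-- The bits of `m` below `n`, as a list. -/
noncomputable def bitsOf (m n : Nat) : List Nat :=
  Nat.rec (motive := fun _ => List Nat) []
    (fun i ih => cond (Nat.beq (Nat.land (Nat.shiftRight m i) 1) 1) (i :: ih) ih) n

theorem bitsOf_succ (m n : Nat) :
    bitsOf m (n + 1) = if m.testBit n then n :: bitsOf m n else bitsOf m n := by
  show cond (Nat.beq (Nat.land (Nat.shiftRight m n) 1) 1) (n :: bitsOf m n) (bitsOf m n) = _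
  have h : Nat.beq (Nat.land (Nat.shiftRight m n) 1) 1 = m.testBit n := by
    rw [show Nat.land (Nat.shiftRight m n) 1 = (m >>> n) &&& 1 from rfl, Nat.and_one_is_mod,
      Nat.shiftRight_eq_div_pow, Bool.eq_iff_iff, Nat.beq_eq,
      Nat.testBit_eq_decide_div_mod_eq, decide_eq_true_iff]
  rw [h]
  cases m.testBit n <;> rfl

theorem mem_bitsOf (m : Nat) : ∀ n i, i ∈ bitsOf m n ↔ i < n ∧ m.testBit i = true := by
  intro n
  induction n with
  | zero => intro i; simp [bitsOf]
  | succ n ih =>
    intro i
    rw [bitsOf_succ]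
    by_cases h : m.testBit n
    · rw [if_pos h, List.mem_cons, ih]
      constructor
      · rintro (rfl | ⟨h1, h2⟩)
        exacts [⟨Nat.lt_succ_self _, h⟩, ⟨h1.trans (Nat.lt_succ_self _), h2⟩]
      · rintro ⟨h1, h2⟩
        rcases Nat.lt_succ_iff_lt_or_eq.1 h1 with h3 | h3
        exacts [Or.inr ⟨h3, h2⟩, Or.inl h3]
    · rw [if_neg h, ih]
      constructor
      · rintro ⟨h1, h2⟩
        exact ⟨h1.trans (Nat.lt_succ_self _), h2⟩
      · rintro ⟨h1, h2⟩
        rcases Nat.lt_succ_iff_lt_or_eq.1 h1 with h3 | h3
        · exact ⟨h3, h2⟩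
        · exact absurd (h3 ▸ h2) h

theorem xs_bitsOf_two_pow (m : Nat) : ∀ n, xs (fun i => 2 ^ i) (bitsOf m n) = m % 2 ^ n := by
  intro n
  induction n with
  | zero => simp [bitsOf, xs_nil, Nat.mod_one]
  | succ n ih =>
    refine Nat.eq_of_testBit_eq fun j => ?_
    rw [bitsOf_succ, Nat.testBit_mod_two_pow]
    by_cases h : m.testBit n
    · rw [if_pos h, xs_cons, ih, Nat.testBit_xor, Nat.testBit_two_pow, Nat.testBit_mod_two_pow]
      rcases lt_trichotomy j n with h1 | h1 | h1
      · simp [h1, show n ≠ j by omega, show j < n + 1 by omega]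
      · subst h1; simp [h]
      · simp [show n ≠ j by omega, show ¬ j < n by omega, show ¬ j < n + 1 by omega]
    · rw [if_neg h, ih, Nat.testBit_mod_two_pow]
      rcases lt_trichotomy j n with h1 | h1 | h1
      · simp [h1, show j < n + 1 by omega]
      · subst h1; simp [h]
      · simp [show ¬ j < n by omega, show ¬ j < n + 1 by omega]

/-- An additive map is read off the unit vectors. -/
theorem map_eq_xs {L : Nat → Nat} (h : ∀ a b, L (a ^^^ b) = L a ^^^ L b) {m n : Nat}
    (hm : m < 2 ^ n) : L m = xs (fun i => L (2 ^ i)) (bitsOf m n) := by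
  conv_lhs => rw [← Nat.mod_eq_of_lt hm, ← xs_bitsOf_two_pow, map_xs h]

/-- Apply a matrix, each shift evaluated at once. -/
noncomputable def fapp (C : List Nat) (v : Nat) : Nat :=
  List.rec (motive := fun _ => Nat → Nat) (fun _ => 0)
    (fun c _ ih v => force v fun v => force (ih (Nat.shiftRight v 1)) fun r =>
      cond (Nat.beq (Nat.land v 1) 1) (Nat.xor c r) r) C v

theorem fapp_eq (C : List Nat) : ∀ v, fapp C v = app C v := by
  induction C with
  | nil => intro v; rfl
  | cons c C ih =>
    intro v
    show force v (fun v => force (fapp C (Nat.shiftRight v 1)) fun r =>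
      cond (Nat.beq (Nat.land v 1) 1) (Nat.xor c r) r) = _
    rw [force_eq, ih]
    rfl

/-- Apply the matrices of a word, the last first. -/
noncomputable def frun {α : Type*} (M : α → List Nat) (w : List α) (v : Nat) : Nat :=
  List.rec (motive := fun _ => Nat) v (fun a _ ih => force ih fun r => fapp (M a) r) w

theorem frun_eq {α : Type*} (M : α → List Nat) (w : List α) (v : Nat) :
    frun M w v = run M w v := by
  induction w with
  | nil => rfl
  | cons a w ih =>
    show force (frun M w v) (fun r => fapp (M a) r) = _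
    rw [force_eq, fapp_eq, ih, run_cons]

end Cfsg.Agent.J4Out
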