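import Cfsg.Agent.J4Out.CertDefs
import Cfsg.Agent.J4Out.Lin

/-!
# Soundness of the certificates for commuting maps
-/

set_option autoImplicit false

namespace Cfsg.Agent.J4Out

open Cfsg.Agent.J4Rep

namespace CCert

variable (C : CCert)

/-- The spun list. -/
noncomputable def spin (acc : List Nat) : List (Nat × Nat) → List Nat :=
  fun l => List.rec (motive := fun _ => List Nat → List Nat) (fun acc => acc)
    (fun p _ ih acc => ih (app (C.gen p.2) (acc.getD p.1 0) :: acc)) l acc

theorem psiGo_eq {β : Sort*} : ∀ (l : List (Nat × Nat)) (acc : List Nat) (k : List Nat → β),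
    C.psiGo l acc k = k (C.spin acc l) := by
  intro l
  induction l with
  | nil => intros; rfl
  | cons p l ih =>
    intro acc k
    show CosetCert.force (fapp (C.gen p.2) (acc.getD p.1 0)) (fun e => C.psiGo l (e :: acc) k) = _
    rw [CosetCert.force_eq, ih, fapp_eq]
    rfl

/-- The spun list of a pair. -/
noncomputable def sp (q : Nat) : List Nat := C.spin [q >>> 112, q % 2 ^ 112] C.how

theorem psi_eq {β : Sort*} (q : Nat) (k : List Nat → β) : C.psi q k = k (C.sp q) := by
  show CosetCert.force _ (fun a => CosetCert.force _ fun b => C.psiGo C.how [b, a] k) = _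
  rw [CosetCert.force_eq, CosetCert.force_eq, psiGo_eq]
  rfl

theorem spin_rel {R : Nat → Nat → Nat → Prop} (h0 : R 0 0 0)
    (hR : ∀ g a b c, R a b c → R (app (C.gen g) a) (app (C.gen g) b) (app (C.gen g) c)) :
    ∀ (l : List (Nat × Nat)) (A B D : List Nat),
      (∀ i, R (A.getD i 0) (B.getD i 0) (D.getD i 0)) →
        ∀ i, R ((C.spin A l).getD i 0) ((C.spin B l).getD i 0) ((C.spin D l).getD i 0) := by
  intro l
  induction l with
  | nil => intro A B D h; exact h
  | cons p l ih =>
    intro A B D h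
    refine ih _ _ _ fun i => ?_
    cases i with
    | zero => exact hR _ _ _ _ (h p.1)
    | succ i => exact h i

theorem sp_add (a b : Nat) (i : Nat) :
    (C.sp (a ^^^ b)).getD i 0 = (C.sp a).getD i 0 ^^^ (C.sp b).getD i 0 := by
  refine C.spin_rel (R := fun x y z => x = y ^^^ z) (by simp)
    (fun g x y z h => by rw [h, app_xor]) _ _ _ _ (fun j => ?_) i
  match j with
  | 0 => simp [Nat.shiftRight_xor_distrib]
  | 1 => exact Nat.xor_mod_two_pow
  | j + 2 => simp

theorem resid_add {A B D : List Nat} (h : ∀ i, A.getD i 0 = B.getD i 0 ^^^ D.getD i 0) (e : Nat) :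
    C.resid A e = C.resid B e ^^^ C.resid D e := by
  unfold resid
  rw [h, fapp_eq, fapp_eq, fapp_eq, app_xor, xs_congr fun b _ => h b, xs_xor]
  exact xor_xor_xor_comm' _ _ _ _

theorem back_add (a b : Nat) : C.back (C.sp (a ^^^ b)) = C.back (C.sp a) ^^^ C.back (C.sp b) := by
  unfold back
  rw [← xs_xor]
  refine xs_congr fun e _ => ?_
  simp only [CosetCert.force_eq, fapp_eq]
  rw [C.resid_add (C.sp_add a b), app_xor]

/-- The injectivity of the residual map off the free coordinates. -/
theorem eq_zero_of_resid (hi : C.Inj) {q : Nat} (hq : q < 2 ^ 224)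
    (hfree : ∀ j ∈ C.free, q.testBit j = false)
    (hres : ∀ e < C.sel.length, C.resid (C.sp q) e = 0) : q = 0 := by
  have h0 : C.back (C.sp q) = 0 := by
    unfold back
    rw [xs_congr (g := fun _ => 0) fun e he => ?_, xs_const, ite_self]
    rw [CosetCert.force_eq, fapp_eq, hres e (List.mem_range.1 he), app_zero]
  have h1 := map_eq_xs (L := fun q => C.back (C.sp q)) C.back_add hq
  rw [h0, xs_congr (g := fun i => 2 ^ i) fun j hj => ?_, xs_bitsOf_two_pow,
    Nat.mod_eq_of_lt hq] at h1
  · exact h1.symm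
  · obtain ⟨hj1, hj2⟩ := (mem_bitsOf _ _ _).1 hj
    have hpart : ∀ lo, C.injB lo 56 = true → lo ≤ j → j < lo + 56 →
        cond (C.free.contains j) true
          (C.psi (Nat.pow 2 j) fun acc => Nat.beq (C.back acc) (Nat.pow 2 j)) = true := by
      intro lo h hle hlt
      have h' := (allB_iff _ _).1 h (j - lo) (by omega)
      rwa [show lo + (j - lo) = j by omega] at h'
    obtain ⟨i0, i1, i2, i3⟩ := hi
    have h2 : cond (C.free.contains j) true
        (C.psi (Nat.pow 2 j) fun acc => Nat.beq (C.back acc) (Nat.pow 2 j)) = true := by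
      rcases Nat.lt_or_ge j 56 with h | h
      · exact hpart 0 i0 (Nat.zero_le _) h
      rcases Nat.lt_or_ge j 112 with h' | h'
      · exact hpart 56 i1 h (by omega)
      rcases Nat.lt_or_ge j 168 with h'' | h''
      · exact hpart 112 i2 h' (by omega)
      · exact hpart 168 i3 h'' (by omega)
    cases hc : C.free.contains j
    · rw [hc, cond_false, psi_eq] at h2
      exact Nat.eq_of_beq_eq_true h2
    · rw [hfree j (List.contains_iff_mem.1 hc)] at hj2
      exact absurd hj2 (by simp)

theorem seedImage_def (f : Nat → Nat) :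
    C.seedImage f = f (C.seed % 2 ^ 112) ||| f (C.seed >>> 112) <<< 112 := rfl

theorem seedImage_eq (f : Nat → Nat) (hf : ∀ v, f v < 2 ^ 112) :
    C.seedImage f % 2 ^ 112 = f (C.seed % 2 ^ 112) ∧
      C.seedImage f >>> 112 = f (C.seed >>> 112) ∧ C.seedImage f < 2 ^ 224 := by
  have e : C.seedImage f = 2 ^ 112 * f (C.seed >>> 112) + f (C.seed % 2 ^ 112) := by
    rw [seedImage_def, Nat.two_pow_add_eq_or_of_lt (hf _), Nat.shiftLeft_eq, mul_comm,
      Nat.lor_comm]
  have h1 := hf (C.seed % 2 ^ 112)
  have h2 := hf (C.seed >>> 112)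
  refine ⟨?_, ?_, ?_⟩
  · rw [e, Nat.mul_add_mod, Nat.mod_eq_of_lt h1]
  · rw [e, Nat.shiftRight_eq_div_pow, Nat.mul_add_div (Nat.two_pow_pos _),
      Nat.div_eq_of_lt h1, add_zero]
  · rw [e, show (2 : ℕ) ^ 224 = 2 ^ 112 * 2 ^ 112 by rw [← pow_add]]
    calc 2 ^ 112 * f (C.seed >>> 112) + f (C.seed % 2 ^ 112)
        < 2 ^ 112 * f (C.seed >>> 112) + 2 ^ 112 := by omega
      _ ≤ 2 ^ 112 * 2 ^ 112 := by rw [← Nat.mul_succ]; exact Nat.mul_le_mul_left _ h2

theorem comb_xor (c a b : Nat) : C.comb c (a ^^^ b) = C.comb c a ^^^ C.comb c b := by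
  unfold comb
  rw [← xs_xor]
  exact xs_congr fun n _ => by simp only [fapp_eq, app_xor]

theorem sol_facts (hs : C.solB = true) {n : Nat} (hn : n < 7) :
    (∀ g < 2, ∀ v < 2 ^ 112,
      app (C.sol.getD n []) (app (C.gen g) v) = app (C.gen g) (app (C.sol.getD n []) v)) ∧
    (∀ c ∈ C.sol.getD n [], c < 2 ^ 112) ∧
    ∀ m < 7, (C.seedImage (fapp (C.sol.getD n []))).testBit (C.free.getD m 0) = decide (m = n) := by
  have h := (allB_iff _ _).1 hs n hn
  rw [Bool.and_eq_true, Bool.and_eq_true] at h
  obtain ⟨⟨h1, h2⟩, h3⟩ := h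
  refine ⟨fun g hg v hv => ?_, fun c hc => Nat.le_of_ble_eq_true (List.all_eq_true.1 h2 c hc), ?_⟩
  · refine eq_of_units (f := fun v => app (C.sol.getD n []) (app (C.gen g) v))
      (g := fun v => app (C.gen g) (app (C.sol.getD n []) v))
      (fun a b => by simp only [app_xor]) (fun a b => by simp only [app_xor]) (fun i hi => ?_) hv
    have h4 := (allB_iff _ _).1 ((allB_iff _ _).1 h1 g hg) i hi
    rw [CosetCert.force_eq] at h4
    have h5 := Nat.eq_of_beq_eq_true h4
    simp only [fapp_eq] at h5
    exact h5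
  · intro m hm
    have h4' := (allB_iff _ _).1 h3 m hm
    rw [CosetCert.force_eq] at h4'
    have h4 := Nat.eq_of_beq_eq_true h4'
    rw [Bool.eq_iff_iff, decide_eq_true_iff, Nat.testBit_eq_decide_div_mod_eq, decide_eq_true_iff,
      ← Nat.shiftRight_eq_div_pow, ← Nat.and_one_is_mod]
    change Nat.land (Nat.shiftRight _ _) 1 = 1 ↔ _
    rw [h4]
    rcases eq_or_ne m n with rfl | hne
    · simp
    · have hb : Nat.beq m n = false := by
        rw [← Bool.not_eq_true]; exact fun h5 => hne (Nat.eq_of_beq_eq_true h5)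
      simp [hb, hne]

theorem xs_indicator (P : Nat → Bool) (m : Nat) : ∀ k,
    (xs (fun i => if P i then 2 ^ i else 0) (List.range k)).testBit m = (decide (m < k) && P m) := by
  intro k
  have happ : ∀ (f : Nat → Nat) (l : List Nat) (a : Nat), xs f (l ++ [a]) = xs f l ^^^ f a := by
    intro f l a
    induction l with
    | nil => simp [xs_cons, xs_nil]
    | cons b l ih => rw [List.cons_append, xs_cons, xs_cons, ih, Nat.xor_assoc]
  induction k with
  | zero => simp [xs_nil]
  | succ k ih =>
    rw [List.range_succ, happ, Nat.testBit_xor, ih]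
    rcases lt_trichotomy m k with h | h | h
    · cases P k <;> simp [h, show m < k + 1 by omega, show k ≠ m by omega, Nat.testBit_two_pow]
    · subst h
      cases hP : P m <;> simp [hP]
    · cases P k <;> simp [show ¬ m < k by omega, show ¬ m < k + 1 by omega, show k ≠ m by omega,
        Nat.testBit_two_pow]

theorem comb_lt (hs : C.solB = true) (c v : Nat) : C.comb c v < 2 ^ 112 :=
  xs_lt fun n hn => by
    rw [fapp_eq]
    exact app_lt (C.sol_facts hs ((mem_bitsOf _ _ _).1 hn).1).2.1 _

/-- An additive map commuting with both matrices is a combination of the listed maps. -/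
theorem exists_comb (hb : C.baseB = true) (hi : C.Inj) (hs : C.solB = true)
    (hfree : C.free.length = 7) (hgen : ∀ g, ∀ c ∈ C.gen g, c < 2 ^ 112)
    (f : Nat → Nat) (hadd : ∀ a b, f (a ^^^ b) = f a ^^^ f b) (hlt : ∀ v, f v < 2 ^ 112)
    (hcomm : ∀ g, ∀ v < 2 ^ 112, f (app (C.gen g) v) = app (C.gen g) (f v)) :
    ∃ c < 128, ∀ v < 2 ^ 112, f v = C.comb c v := by
  rw [baseB, psi_eq, Bool.and_eq_true, Bool.and_eq_true] at hb
  obtain ⟨⟨hb1, hb2⟩, hb3⟩ := hb
  have hseed : C.seed < 2 ^ 224 := Nat.le_of_ble_eq_true hb3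
  set c := xs (fun m => if (C.seedImage f).testBit (C.free.getD m 0) then 2 ^ m else 0)
    (List.range 7) with hc
  have hc128 : c < 2 ^ 7 := xs_lt fun m hm => by
    split_ifs
    · exact Nat.pow_lt_pow_right (by norm_num) (List.mem_range.1 hm)
    · norm_num
  refine ⟨c, hc128, ?_⟩
  set g := fun v => f v ^^^ C.comb c v with hg
  have gadd : ∀ a b, g (a ^^^ b) = g a ^^^ g b := fun a b => by
    simp only [hg, hadd, C.comb_xor]; exact xor_xor_xor_comm' _ _ _ _
  have glt : ∀ v, g v < 2 ^ 112 := fun v => Nat.xor_lt_two_pow (hlt v) (C.comb_lt hs c v)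
  have gcomm : ∀ k, ∀ v < 2 ^ 112, g (app (C.gen k) v) = app (C.gen k) (g v) := by
    intro k v hv
    simp only [hg, app_xor, hcomm k v hv]
    congr 1
    rw [comb, comb, map_xs (app_xor _)]
    refine xs_congr fun n hn => ?_
    simp only [fapp_eq]
    have hsf := (C.sol_facts hs ((mem_bitsOf _ _ _).1 hn).1).1
    rcases Nat.eq_zero_or_pos k with rfl | hk
    · exact hsf 0 (by norm_num) v hv
    · have : C.gen k = C.gen 1 := by
        unfold gen
        rw [show Nat.beq k 0 = false by
          rw [← Bool.not_eq_true]; exact fun h => by have := Nat.eq_of_beq_eq_true h; omega]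
        rfl
      rw [this]
      exact hsf 1 (by norm_num) v hv
  obtain ⟨hq1, hq2, hq3⟩ := C.seedImage_eq g glt
  -- the spun lists correspond
  have hrel : ∀ i, (C.sp C.seed).getD i 0 < 2 ^ 112 ∧
      g ((C.sp C.seed).getD i 0) = (C.sp (C.seedImage g)).getD i 0 := by
    refine C.spin_rel (R := fun x y _ => x < 2 ^ 112 ∧ g x = y)
      ⟨Nat.two_pow_pos _, map_zero_of_add gadd⟩
      (fun k x y _ h => ⟨app_lt (hgen k) _, by rw [gcomm k x h.1, h.2]⟩) C.how _ _ [0, 0]
      (fun j => ?_)
    match j with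
    | 0 =>
      refine ⟨?_, hq2.symm⟩
      simp only [List.getD_cons_zero]
      rw [Nat.shiftRight_eq_div_pow]
      refine Nat.div_lt_of_lt_mul ?_
      rw [← pow_add]
      exact hseed
    | 1 => exact ⟨Nat.mod_lt _ (Nat.two_pow_pos 112), hq1.symm⟩
    | j + 2 => exact ⟨by simp, by simp [map_zero_of_add gadd]⟩
  have hres : ∀ e < C.sel.length, C.resid (C.sp (C.seedImage g)) e = 0 := by
    intro e he
    have h0 := Nat.eq_of_beq_eq_true ((allB_iff _ _).1 hb1 e he)
    have h1 := congrArg g h0
    rw [map_zero_of_add gadd] at h1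
    rw [← h1]
    unfold resid
    show _ = g (fapp _ _ ^^^ xs _ _)
    rw [gadd, map_xs gadd, fapp_eq, fapp_eq, gcomm _ _ (hrel _).1, (hrel _).2,
      xs_congr fun b _ => (hrel b).2]
    rfl
  have hfr : ∀ j ∈ C.free, (C.seedImage g).testBit j = false := by
    intro j hj
    obtain ⟨m, hm, rfl⟩ := List.mem_iff_getElem.1 hj
    rw [← List.getD_eq_getElem _ 0 hm]
    rw [hfree] at hm
    -- expand the image of the seeds
    have hsplit : C.seedImage g = C.seedImage f ^^^ C.seedImage (fun v => C.comb c v) := by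
      rw [seedImage_def, seedImage_def, seedImage_def]
      refine Nat.eq_of_testBit_eq fun i => ?_
      simp only [Nat.testBit_or,
        Nat.testBit_xor, Nat.testBit_shiftLeft, hg]
      rcases Nat.lt_or_ge i 112 with h | h
      · simp [show ¬ i ≥ 112 by omega]
      · have hp : (2 : ℕ) ^ 112 ≤ 2 ^ i := Nat.pow_le_pow_right (by norm_num) h
        simp only [ge_iff_le, h, decide_true, Bool.true_and]
        rw [Nat.testBit_lt_two_pow ((hlt _).trans_le hp),
          Nat.testBit_lt_two_pow ((C.comb_lt hs c _).trans_le hp)]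
        simp
    have hcomb : ∀ c' : Nat, ∀ l : List Nat, (∀ n ∈ l, n < 7) →
        (C.seedImage fun v => xs (fun n => fapp (C.sol.getD n []) v) l).testBit (C.free.getD m 0) =
          (xs (fun n => 2 ^ n) l).testBit m := by
      intro c' l
      induction l with
      | nil =>
        intro
        rw [seedImage_def]
        simp [xs_nil]
      | cons n l ih =>
        intro h
        have hn := h n List.mem_cons_self
        have hone := (C.sol_facts hs hn).2.2 m hm
        have ih' := ih fun x hx => h x (List.mem_cons_of_mem _ hx)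
        rw [xs_cons, Nat.testBit_xor, Nat.testBit_two_pow, ← ih',
          show decide (n = m) = decide (m = n) from decide_eq_decide.2 eq_comm, ← hone,
          ← Nat.testBit_xor]
        congr 1
        rw [seedImage_def, seedImage_def, seedImage_def]
        refine Nat.eq_of_testBit_eq fun i => ?_
        simp only [Nat.testBit_or,
          Nat.testBit_xor, Nat.testBit_shiftLeft, xs_cons, fapp_eq]
        rcases Nat.lt_or_ge i 112 with h' | h'
        · simp [show ¬ i ≥ 112 by omega]
        · have hp : (2 : ℕ) ^ 112 ≤ 2 ^ i := Nat.pow_le_pow_right (by norm_num) h'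
          simp only [ge_iff_le, h', decide_true, Bool.true_and]
          rw [Nat.testBit_lt_two_pow ((app_lt (C.sol_facts hs hn).2.1 _).trans_le hp),
            Nat.testBit_lt_two_pow ((xs_lt fun x hx => app_lt
              (C.sol_facts hs (h x (List.mem_cons_of_mem _ hx))).2.1 _).trans_le hp)]
          simp
    rw [hsplit, Nat.testBit_xor]
    have h7 := hcomb c (bitsOf c 7) fun n hn => ((mem_bitsOf _ _ _).1 hn).1
    rw [xs_bitsOf_two_pow, Nat.mod_eq_of_lt hc128] at h7
    rw [show (fun v => C.comb c v) = fun v => xs (fun n => fapp (C.sol.getD n []) v) (bitsOf c 7)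
      from rfl, h7]
    suffices hcb : c.testBit m = (C.seedImage f).testBit (C.free.getD m 0) by rw [hcb, Bool.xor_self]
    rw [hc, xs_indicator (fun i => (C.seedImage f).testBit (C.free.getD i 0)), decide_eq_true hm,
      Bool.true_and]
  have hzero := C.eq_zero_of_resid hi hq3 hfr hres
  intro v hv
  have hall : g v = 0 := by
    refine eq_of_units (g := fun _ => 0) gadd (fun _ _ => rfl) (fun j hj => ?_) hv
    have h1 := Nat.eq_of_beq_eq_true ((allB_iff _ _).1 hb2 j hj)
    rw [show (2 : Nat) ^ j = Nat.pow 2 j from rfl, ← h1, map_xs gadd, xs_congr (g := fun _ => 0),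
      xs_const, ite_self]
    intro b _
    rw [(hrel b).2, hzero]
    refine (C.spin_rel (R := fun x _ _ => x = 0) rfl (fun k x _ _ h => by rw [h, app_zero])
      C.how _ [] [] (fun i => ?_) b)
    match i with
    | 0 => simp
    | 1 => simp
    | i + 2 => simp
  exact Nat.xor_eq_zero_iff.1 hall

end CCert

end Cfsg.Agent.J4Out
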