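import Cfsg.Agent.J4Out.Letters
import Cfsg.Agent.J4Out.TData

/-! The checks of the certificates for the maps commuting with two elements, as Boolean definitions. -/

set_option autoImplicit false

namespace Cfsg.Agent.J4Out

open Cfsg.Agent.CosetCert (force)

/-- A certificate. -/
structure CCert where
  gA : Nat
  gB : Nat
  seed : Nat
  how : List (Nat × Nat)
  sel : List (Nat × Nat × Nat)
  free : List Nat
  left : List (List Nat)
  sol : List (List Nat)
  unit : List Nat

/-- For `x` and the second centralising element. -/
def cert0 : CCert := ⟨0, 17, seedS0, howS0, selS0, freeS0, leftS0, solS0, unitS0⟩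

/-- For the other lift. -/
def cert1 : CCert := ⟨18, 21, seedS1, howS1, selS1, freeS1, leftS1, solS1, unitS1⟩

namespace CCert

variable (C : CCert)

/-- One of the two matrices. -/
noncomputable def gen (g : Nat) : List Nat := cond (Nat.beq g 0) (mt C.gA) (mt C.gB)

/-- Extend the spun list. -/
noncomputable def psiGo {β : Sort*} (l : List (Nat × Nat)) :
    List Nat → (List Nat → β) → β :=
  List.rec (motive := fun _ => List Nat → (List Nat → β) → β) (fun acc k => k acc)
    (fun p _ ih acc k => force (fapp (C.gen p.2) (acc.getD p.1 0)) fun e => ih (e :: acc) k) l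

/-- The spun list of a pair of images. -/
noncomputable def psi {β : Sort*} (q : Nat) (k : List Nat → β) : β :=
  force (Nat.mod q (Nat.pow 2 112)) fun a => force (Nat.shiftRight q 112) fun b =>
    psiGo C C.how [b, a] k

/-- One residual. -/
noncomputable def resid (acc : List Nat) (e : Nat) : Nat :=
  Nat.xor (fapp (C.gen (C.sel.getD e (0, 0, 0)).2.1) (acc.getD (C.sel.getD e (0, 0, 0)).1 0))
    (xs (fun b => acc.getD b 0) (bitsOf (C.sel.getD e (0, 0, 0)).2.2 112))

/-- The residuals, carried back by the left inverse. -/
noncomputable def back (acc : List Nat) : Nat :=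
  xs (fun e => force (C.resid acc e) fun r => fapp (C.left.getD e []) r) (List.range C.sel.length)

/-- The seeds satisfy the equations and span. -/
noncomputable def baseB : Bool :=
  C.psi C.seed fun acc =>
    allB (fun e => Nat.beq (C.resid acc e) 0) C.sel.length &&
      allB (fun j => Nat.beq (xs (fun b => acc.getD b 0) (bitsOf (C.unit.getD j 0) 112))
        (Nat.pow 2 j)) 112 &&
      Nat.blt C.seed (Nat.pow 2 224)

/-- The residual map is injective away from the free coordinates. -/
noncomputable def injB (lo n : Nat) : Bool :=
  allB (fun i => cond (C.free.contains (lo + i)) true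
    (C.psi (Nat.pow 2 (lo + i)) fun acc => Nat.beq (C.back acc) (Nat.pow 2 (lo + i)))) n

/-- The residual map is injective, checked in four parts. -/
def Inj : Prop :=
  C.injB 0 56 = true ∧ C.injB 56 56 = true ∧ C.injB 112 56 = true ∧ C.injB 168 56 = true

/-- The image of the seeds under a map. -/
noncomputable def seedImage (f : Nat → Nat) : Nat :=
  Nat.lor (f (Nat.mod C.seed (Nat.pow 2 112)))
    (Nat.shiftLeft (f (Nat.shiftRight C.seed 112)) 112)

/-- The listed maps commute and are dual to the free coordinates. -/
noncomputable def solB : Bool :=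
  allB (fun n =>
    allB (fun g => allB (fun i => force (Nat.pow 2 i) fun u =>
      Nat.beq (fapp (C.sol.getD n []) (fapp (C.gen g) u))
        (fapp (C.gen g) (fapp (C.sol.getD n []) u))) 112) 2 &&
      (C.sol.getD n []).all (fun c => Nat.blt c (Nat.pow 2 112)) &&
      allB (fun m => force (C.seedImage (fapp (C.sol.getD n []))) fun q =>
        Nat.beq (Nat.land (Nat.shiftRight q (C.free.getD m 0)) 1) (cond (Nat.beq m n) 1 0)) 7) 7

/-- A combination of the listed maps. -/
noncomputable def comb (c v : Nat) : Nat := xs (fun n => fapp (C.sol.getD n []) v) (bitsOf c 7)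

/-- The conditions at the first unit vector. -/
noncomputable def failB (w wi : Nat) (c : Nat) : Bool :=
  !(force (C.comb c 1) fun a => Nat.beq (C.comb c a) 1) ||
    !(force (Nat.pow 2 0) fun v =>
      force (frun mt [w] v) fun v => force (C.comb c v) fun v => force (frun mt [1, wi] v) fun v =>
      force (frun mt [w] v) fun v => force (C.comb c v) fun v => force (frun mt [1, wi] v) fun v =>
      force (frun mt [w] v) fun v => force (C.comb c v) fun v =>
        Nat.beq (frun mt [1, wi] v) (frun mt [6] 1))

end CCert

/-- For `x`, only two combinations pass, `t` and the impostor. -/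
noncomputable def case0B : Bool :=
  allB (fun c => Nat.beq c 85 || Nat.beq c 110 || cert0.failB 4 5 c) 128 &&
    allB (fun i => force (Nat.pow 2 i) fun u => Nat.beq (cert0.comb 110 u) (fapp (mt 3) u) &&
      Nat.beq (cert0.comb 85 u) (fapp altT u)) 112

/-- For the other lift, none passes. -/
noncomputable def case1B : Bool := allB (fun c => cert1.failB 19 20 c) 128

/-- The matrices of the squares chain. -/
noncomputable def chainMat (k : Nat) : List Nat :=
  cond (Nat.blt k 67) (sqChain.getD k [])
    ([altT, mt 0, mt 1, mt 3].getD (Nat.sub k 67) [])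

/-- The chain is correct. -/
noncomputable def chainB (lo n : Nat) : Bool :=
  allB (fun i => eqB chainMat [lo + i + 1] [lo + i, lo + i]) n

/-- The exponent. -/
def ordN : Nat := 86775571046077562880

/-- The chain gives a power different from one. -/
noncomputable def chainEndB : Bool :=
  eqB chainMat [0] [67, 68, 69, 70, 69] &&
    !(Nat.beq (frun chainMat (bitsOf ordN 67) 1) 1)

end Cfsg.Agent.J4Out
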