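import Cfsg.Agent.J4Out.CertDefs

/-! Kernel check. -/

set_option autoImplicit false
set_option maxRecDepth 100000

namespace Cfsg.Agent.J4Out

theorem inj0a_ok : cert0.injB 0 56 = true := by decide +kernel

end Cfsg.Agent.J4Out
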