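import Cfsg.Agent.J4Out.Rels

/-! Kernel check. -/

set_option autoImplicit false
set_option maxRecDepth 100000

namespace Cfsg.Agent.J4Out

theorem orb_ok : orbB = true := by decide +kernel

theorem span_ok : spanB = true := by decide +kernel

theorem free_ok : freeB 1 2047 = true := by decide +kernel

end Cfsg.Agent.J4Out
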