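import Cfsg.Agent.J4Out.Unique

/-!
# All elementary abelian subgroups of order 2048 are conjugate
-/

set_option autoImplicit false
set_option maxRecDepth 100000

namespace Cfsg.Agent.J4Out

open Cfsg.Agent.J4Rep Subgroup

local notation "J" => Cfsg.Spor.J4

theorem run_mA_lt : ∀ (w : List Nat), ∀ m < 2 ^ 11, run mA w m < 2 ^ 11 := by
  intro w
  induction w with
  | nil => intro m hm; exact hm
  | cons a w ih =>
    intro m hm
    rw [run_cons]
    unfold mA
    cases Nat.beq a 0
    · exact app_aY_lt _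
    · exact app_aX_lt _

theorem code_congr {M N : List Nat} (he : ∀ k < 11, M.getD k 0 = N.getD k 0) :
    code M = code N := by
  let f : List Nat → Nat → Nat → Nat := fun L k ih =>
    Nat.add (Nat.mul (L.getD k 0) (Nat.pow 2 (Nat.mul 11 k))) ih
  have key : ∀ n, n ≤ 11 → Nat.rec (motive := fun _ => Nat) 0 (f M) n =
      Nat.rec (motive := fun _ => Nat) 0 (f N) n := by
    intro n
    induction n with
    | zero => intro; rfl
    | succ n ih =>
      intro hn
      show f M n _ = f N n _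
      simp only [f, he n hn, ih (Nat.le_of_succ_le hn)]
  exact key 11 le_rfl

theorem sM_zero : ∀ k < 11, (sM 0).getD k 0 = 2 ^ k := by
  intro k hk
  have hr := reach_ok
  rw [reachB, Bool.and_eq_true] at hr
  exact Nat.eq_of_beq_eq_true ((allB_iff _ _).1 hr.1 k hk)

theorem finite_linPerms : Finite (linPerms 11) := by
  have : Finite (Vec 11) := Finite.of_equiv (Fin (2 ^ 11))
    { toFun := fun v => ⟨v.1, v.2⟩, invFun := fun v => ⟨v.1, v.2⟩,
      left_inv := fun _ => rfl, right_inv := fun _ => rfl }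
  infer_instance

theorem code_inj {i j : Nat} (hi : i < 1024) (hj : j < 1024)
    (hc : code (sM i) = code (sM j)) : i = j := by
  have hd := distinct_ok
  rw [distinctB, Bool.and_eq_true] at hd
  have hmono : ∀ p q, p < q → q < 1024 →
      code (sM (get2 32 sylSrt 0 p)) < code (sM (get2 32 sylSrt 0 q)) := by
    intro p q hpq
    induction q with
    | zero => omega
    | succ q ih =>
      intro hq
      have hstep : code (sM (get2 32 sylSrt 0 q)) < code (sM (get2 32 sylSrt 0 (q + 1))) :=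
        Nat.le_of_ble_eq_true ((allB_iff _ _).1 hd.1 q (by omega))
      rcases Nat.lt_succ_iff_lt_or_eq.1 hpq with h1 | h1
      · exact (ih h1 (by omega)).trans hstep
      · subst h1; exact hstep
  have hi' := (allB_iff _ _).1 hd.2 i hi
  have hj' := (allB_iff _ _).1 hd.2 j hj
  rw [Bool.and_eq_true] at hi' hj'
  have hi2 := Nat.eq_of_beq_eq_true hi'.2
  have hj2 := Nat.eq_of_beq_eq_true hj'.2
  rcases lt_trichotomy (get2 32 sylRank 0 i) (get2 32 sylRank 0 j) with h1 | h1 | h1
  · have := hmono _ _ h1 (Nat.le_of_ble_eq_true hj'.1)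
    rw [hi2, hj2, hc] at this
    exact absurd this (lt_irrefl _)
  · rw [← hi2, ← hj2, h1]
  · have := hmono _ _ h1 (Nat.le_of_ble_eq_true hi'.1)
    rw [hi2, hj2, hc] at this
    exact absurd this (lt_irrefl _)

variable (h : Cfsg.IsJ4 J)
include h

theorem conj_word : ∀ w : List Nat, (∀ a ∈ w, a < 2) →
    ev base w ∈ Ks ∧ ∀ m < 2 ^ 11, ev base w * elV m * (ev base w)⁻¹ = elV (run mA w m) := by
  intro w
  induction w with
  | nil => intro; exact ⟨one_mem _, fun m _ => by simp [ev, run]⟩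
  | cons a w ih =>
    intro hw
    obtain ⟨h1, h2⟩ := ih fun x hx => hw x (List.mem_cons_of_mem _ hx)
    have ha := hw a List.mem_cons_self
    refine ⟨?_, fun m hm => ?_⟩
    · rw [ev_cons]
      refine mul_mem ?_ h1
      interval_cases a
      exacts [gx_mem_Ks, gy_mem_Ks]
    · rw [ev_cons, mul_inv_rev, run_cons,
        show base a * ev base w * elV m * ((ev base w)⁻¹ * (base a)⁻¹) =
          base a * (ev base w * elV m * (ev base w)⁻¹) * (base a)⁻¹ by group, h2 m hm]
      interval_cases a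
      · exact conj_gx h.1 (run_mA_lt w m hm)
      · exact conj_gy h.1 (run_mA_lt w m hm)

/-- A generator of the Sylow subgroup of the quotient. -/
noncomputable def sylEl (j : Fin 10) : Nz h :=
  ⟨ev base (sylW.getD j.1 []), Ks_le_normalizer h (conj_word h _ (by
    have h1 := (allB_iff _ _).1 genW_ok j.1 j.2
    rw [genWB.gate', Bool.and_eq_true] at h1
    intro a ha
    exact Nat.le_of_ble_eq_true (List.all_eq_true.1 h1.1 a ha))).1⟩

theorem has_sylEl (j : Fin 10) : Has (act h (sylEl h j)) (sylG.getD j.1 []) := by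
  have h1 := (allB_iff _ _).1 genW_ok j.1 j.2
  rw [genWB.gate', Bool.and_eq_true] at h1
  refine has_of_units fun k hk => ?_
  have hp : 2 ^ k < 2 ^ 11 := Nat.pow_lt_pow_right (by norm_num) hk
  have h2 := act_apply h (sylEl h j) ⟨2 ^ k, hp⟩
  rw [ap_val] at h2
  have h3 := (conj_word h _ fun a ha =>
    Nat.le_of_ble_eq_true (List.all_eq_true.1 h1.1 a ha)).2 _ hp
  have h4 := elV_inj h.1 (ap_lt _ _) (run_mA_lt _ _ hp) (h2.symm.trans h3)
  rw [h4, ← frun_eq]
  exact Nat.eq_of_beq_eq_true ((allB_iff _ _).1 h1.2 k hk)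

/-- The generated subgroup. -/
noncomputable def sylQ : Subgroup (linPerms 11) :=
  closure (Set.range fun j : Fin 10 => act h (sylEl h j))

theorem succ_step {σ : linPerms 11} {i : Nat} (hi : i < 1024) (hσ : Has σ (sM i)) (j : Fin 10) :
    sSucc i j.1 < 1024 ∧ Has (σ * act h (sylEl h j)) (sM (sSucc i j.1)) := by
  have h1 := (allB_iff _ _).1 ((allB_iff _ _).1 succ_ok i hi) j.1 j.2
  rw [Nat.zero_add] at h1
  cases hlt : Nat.blt (sSucc i j.1) 1024
  · rw [hlt, cond_false] at h1; exact absurd h1 (by simp)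
  · rw [hlt, cond_true] at h1
    exact ⟨Nat.le_of_ble_eq_true hlt, hσ.mul (has_sylEl h j)
      fun k hk => Nat.eq_of_beq_eq_true ((allB_iff _ _).1 h1 k hk)⟩

theorem sylQ_listed : ∀ σ ∈ sylQ h, ∃ i < 1024, Has σ (sM i) := by
  have := finite_linPerms
  intro σ hσ
  have hσ' : σ ∈ Submonoid.closure (Set.range fun j : Fin 10 => act h (sylEl h j)) := by
    rwa [← Subgroup.closure_toSubmonoid_of_finite]
  induction hσ' using Submonoid.closure_induction_right with
  | one => exact ⟨0, by norm_num, has_one sM_zero⟩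
  | mul_right σ _ g hg ih =>
    obtain ⟨j, rfl⟩ := hg
    obtain ⟨i, hi, hiσ⟩ := ih ((mul_mem_cancel_right
      (subset_closure (k := Set.range fun j : Fin 10 => act h (sylEl h j)) ⟨j, rfl⟩)).1 hσ)
    exact ⟨_, (succ_step h hi hiσ j).1, (succ_step h hi hiσ j).2⟩

theorem listed_sylQ : ∀ i < 1024, ∃ σ ∈ sylQ h, Has σ (sM i) := by
  intro i
  induction i using Nat.strong_induction_on with
  | _ i ih =>
    intro hi
    rcases eq_or_ne i 0 with rfl | h0
    · exact ⟨1, one_mem _, has_one sM_zero⟩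
    · have hr := reach_ok
      rw [reachB, Bool.and_eq_true] at hr
      have h1 := (allB_iff _ _).1 hr.2 i hi
      have hb : Nat.beq i 0 = false := by
        rw [← Bool.not_eq_true]; exact fun h2 => h0 (Nat.eq_of_beq_eq_true h2)
      rw [hb, cond_false, Bool.and_eq_true, Bool.and_eq_true] at h1
      have hlt := Nat.le_of_ble_eq_true h1.1.1
      obtain ⟨σ, hσ, hσi⟩ := ih _ hlt (Nat.lt_trans hlt hi)
      have h3 := succ_step h (Nat.lt_trans hlt hi) hσi
        ⟨Nat.mod (get2 32 sylPar 0 i) 16, Nat.le_of_ble_eq_true h1.1.2⟩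
      have h4 := Nat.eq_of_beq_eq_true h1.2
      have h5 := h3.2
      simp only [h4] at h5
      exact ⟨_, mul_mem hσ (subset_closure ⟨_, rfl⟩), h5⟩

theorem card_sylQ : Nat.card (sylQ h) = 1024 := by
  rw [← Nat.card_fin 1024]
  refine (Nat.card_congr (Equiv.ofBijective
    (fun i : Fin 1024 => (⟨(listed_sylQ h i.1 i.2).choose,
      (listed_sylQ h i.1 i.2).choose_spec.1⟩ : sylQ h)) ⟨?_, ?_⟩)).symm
  · intro i j hij
    have h1 := (listed_sylQ h i.1 i.2).choose_spec.2
    have h2 := (listed_sylQ h j.1 j.2).choose_spec.2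
    have hij' : (listed_sylQ h i.1 i.2).choose = (listed_sylQ h j.1 j.2).choose :=
      congrArg Subtype.val hij
    rw [hij'] at h1
    exact Fin.ext (code_inj i.2 j.2
      (code_congr fun k hk => (h1.unit hk).symm.trans (h2.unit hk)))
  · rintro ⟨σ, hσ⟩
    obtain ⟨i, hi, hiσ⟩ := sylQ_listed h σ hσ
    exact ⟨⟨i, hi⟩, Subtype.ext ((listed_sylQ h i hi).choose_spec.2.eq hiσ)⟩

/-- A Sylow 2-subgroup. -/
noncomputable def sylP : Subgroup J := ((sylQ h).comap (act h)).map (Nz h).subtype

theorem card_sylP : Nat.card (sylP h) = 2 ^ 21 := by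
  have := finite h
  rw [sylP, card_map_of_injective (Nz h).subtype_injective]
  have hle : (act h).ker ≤ (sylQ h).comap (act h) := (act h).ker_le_comap _
  rw [card_eq_card_quotient_mul_card_subgroup ((act h).ker.subgroupOf ((sylQ h).comap (act h))),
    Nat.card_congr (subgroupOfEquivOfLe hle).toEquiv, card_ker_act]
  rw [show (2 : ℕ) ^ 21 = 1024 * 2 ^ 11 by norm_num, ← card_sylQ h]
  congr 1
  have hQ : sylQ h ≤ (act h).range := by
    rw [sylQ, closure_le]
    rintro _ ⟨j, rfl⟩
    exact ⟨_, rfl⟩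
  show ((act h).ker.subgroupOf ((sylQ h).comap (act h))).index = _
  rw [show (act h).ker.subgroupOf ((sylQ h).comap (act h)) =
      ((act h).comp ((sylQ h).comap (act h)).subtype).ker from rfl, Subgroup.index_ker,
    MonoidHom.range_comp, Subgroup.range_subtype, map_comap_eq, inf_eq_right.2 hQ]

/-- The only elementary abelian subgroup of order 2048 in the Sylow subgroup. -/
theorem eq_Vs_of_le {E : Subgroup J} (hE : E ≤ sylP h) (hcard : Nat.card E = 2 ^ 11)
    (hsq : ∀ a ∈ E, a * a = 1) : E = Vs h.1 := by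
  classical
  have := finite h
  have := finite_linPerms
  have hEN : E ≤ Nz h := hE.trans (map_subtype_le _)
  set E' := E.subgroupOf (Nz h) with hE'
  set A := E'.map (act h) with hA
  have hcomm : ∀ a ∈ E, ∀ b ∈ E, a * b = b * a := by
    intro a ha b hb
    have h1 := hsq _ (mul_mem ha hb)
    calc a * b = (a * b)⁻¹ := (inv_eq_of_mul_eq_one_right h1).symm
      _ = b * a := by rw [mul_inv_rev, inv_eq_of_mul_eq_one_right (hsq b hb),
            inv_eq_of_mul_eq_one_right (hsq a ha)]
  set F := (Finset.range 2048).filter fun m => elV m ∈ E with hFdef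
  have hAsq : ∀ σ ∈ A, σ * σ = 1 := by
    rintro _ ⟨g, hg, rfl⟩
    rw [← map_mul, show g * g = 1 from Subtype.ext (hsq _ hg), map_one]
  have hAc : ∀ σ ∈ A, ∀ τ ∈ A, σ * τ = τ * σ := by
    rintro _ ⟨g, hg, rfl⟩ _ ⟨k, hk, rfl⟩
    rw [← map_mul, ← map_mul, show g * k = k * g from Subtype.ext (hcomm _ hg _ hk)]
  have hAQ : A ≤ sylQ h := by
    rintro _ ⟨g, hg, rfl⟩
    obtain ⟨g', hg', he⟩ := hE hg
    rw [← (Nz h).subtype_injective he]
    exact hg'
  have hrep : ∀ σ ∈ A, σ ≠ 1 → ∃ i < 191, Has σ (iM i) := by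
    intro σ hσ hne
    obtain ⟨i, hi, hiσ⟩ := sylQ_listed h σ (hAQ hσ)
    exact inv_listed hi hiσ (hAsq σ hσ) hne
  have hF : ∀ m ∈ F, m < 2048 ∧ ∀ σ ∈ A, ap σ m = m := by
    intro m hm
    rw [hFdef, Finset.mem_filter, Finset.mem_range] at hm
    refine ⟨hm.1, ?_⟩
    rintro _ ⟨g, hg, rfl⟩
    have h1 := act_apply h g ⟨m, hm.1⟩
    rw [ap_val] at h1
    have hgE : (g : J) ∈ E := hg
    refine (elV_inj h.1 hm.1 (ap_lt _ _) (Eq.trans ?_ h1)).symm
    show elV m = (g : J) * elV m * (g : J)⁻¹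
    rw [hcomm _ hgE _ hm.2, mul_inv_cancel_right]
  have hcl : ∀ a ∈ F, ∀ b ∈ F, a ^^^ b ∈ F := by
    intro a ha b hb
    rw [hFdef, Finset.mem_filter, Finset.mem_range] at ha hb ⊢
    exact ⟨Nat.xor_lt_two_pow (n := 11) ha.1 hb.1, by rw [← elV_mul h.1]; exact mul_mem ha.2 hb.2⟩
  have hsplit : Nat.card E = Nat.card A * F.card := by
    rw [← Nat.card_congr (subgroupOfEquivOfLe hEN).toEquiv, ← hE',
      card_eq_card_quotient_mul_card_subgroup ((act h).ker.subgroupOf E')]
    congr 1
    · show ((act h).ker.subgroupOf E').index = _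
      rw [show (act h).ker.subgroupOf E' = ((act h).comp E'.subtype).ker from rfl,
        Subgroup.index_ker, MonoidHom.range_comp, Subgroup.range_subtype]
    · rw [← Nat.card_eq_finsetCard]
      have hmem : ∀ m : F, m.1 < 2048 ∧ elV m.1 ∈ E := fun m =>
        ⟨Finset.mem_range.1 (Finset.mem_filter.1 m.2).1, (Finset.mem_filter.1 m.2).2⟩
      let f : F → (act h).ker.subgroupOf E' := fun m =>
        ⟨⟨⟨elV m.1, hEN (hmem m).2⟩, (hmem m).2⟩,
          (mem_ker_act h _).2 (elV_mem h.1 (hmem m).1)⟩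
      refine (Nat.card_congr (Equiv.ofBijective f ⟨fun m n hmn => ?_, fun g => ?_⟩)).symm
      · exact Subtype.ext (elV_inj h.1 (hmem m).1 (hmem n).1
          (congrArg (fun q : (act h).ker.subgroupOf E' => (q.1.1 : J)) hmn))
      · obtain ⟨m, hm, he⟩ := (mem_ker_act h g.1.1).1 g.2
        have hmF : m ∈ F := by
          rw [hFdef, Finset.mem_filter, Finset.mem_range, he]
          exact ⟨hm, g.1.2⟩
        exact ⟨⟨m, hmF⟩, Subtype.ext (Subtype.ext (Subtype.ext he))⟩
  have hnode : Node A F 0 [] (Nat.sub (Nat.pow 2 191) 1) (Nat.sub (Nat.pow 2 2048) 1) {1} := by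
    refine ⟨by simp, by simp, by simp, by simp, by simp, by simp, ?_, ?_, ?_, Or.inl rfl⟩
    · intro i hi σ _ _ _
      show (2 ^ 191 - 1).testBit i = true
      rw [Nat.testBit_two_pow_sub_one, decide_eq_true hi]
    · show 2 ^ 191 - 1 < 2 ^ 191
      omega
    · intro m hm
      show (2 ^ 2048 - 1).testBit m = true
      rw [Nat.testBit_two_pow_sub_one, decide_eq_true (hF m hm).1]
  have h1 := search_ok
  rw [searchB] at h1
  rcases goB_sound hAsq hAc hrep hF hcl 7 0 [] _ _ {1} h1 rfl hnode with h2 | h2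
  · refine Subgroup.eq_of_le_of_card_ge (fun a ha => ?_) (by rw [card_Vs, hcard])
    have hmem : act h ⟨a, hEN ha⟩ ∈ A := ⟨⟨a, hEN ha⟩, ha, rfl⟩
    rw [Subgroup.card_eq_one.1 h2, mem_bot] at hmem
    exact (mem_ker_act h _).1 (MonoidHom.mem_ker.2 hmem)
  · rw [hcard, mul_comm] at hsplit
    omega

/-- The elementary abelian subgroups of order 2048 are conjugate. -/
theorem exists_conj {E : Subgroup J} (hcard : Nat.card E = 2 ^ 11)
    (hsq : ∀ a ∈ E, a * a = 1) :
    ∃ g : J, E.map (MulAut.conj g).toMonoidHom = Vs h.1 := by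
  have := finite h
  have := Fact.mk Nat.prime_two
  have hp : IsPGroup 2 E := IsPGroup.of_card hcard
  obtain ⟨S, hS⟩ := hp.exists_le_sylow
  have hfac : (Nat.card J).factorization 2 = 21 := by
    rw [h.2, show (86775571046077562880 : ℕ) = 2 ^ 21 * 41377816699065 by norm_num,
      Nat.factorization_mul (by norm_num) (by norm_num), Finsupp.add_apply,
      Nat.Prime.factorization_pow Nat.prime_two, Finsupp.single_eq_same,
      Nat.factorization_eq_zero_of_not_dvd (by norm_num)]
  let P : Sylow 2 J := Sylow.ofCard (sylP h) (by rw [card_sylP, hfac])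
  obtain ⟨g, hg⟩ := MulAction.exists_smul_eq J S P
  refine ⟨g, eq_Vs_of_le h ?_ ?_ ?_⟩
  · rintro _ ⟨a, ha, rfl⟩
    show MulAut.conj g • a ∈ (P : Subgroup J)
    rw [← hg, Sylow.coe_subgroup_smul]
    exact Subgroup.smul_mem_pointwise_smul a (MulAut.conj g) _ (hS ha)
  · rw [card_map_of_injective (MulAut.conj g).injective, hcard]
  · rintro _ ⟨a, ha, rfl⟩
    rw [← map_mul, hsq a ha, map_one]

end Cfsg.Agent.J4Out
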