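import Cfsg.Agent.J4Out.Restrict

/-!
# The normal subgroup is fixed pointwise
-/

set_option autoImplicit false
set_option maxRecDepth 100000

namespace Cfsg.Agent.J4Out

open Cfsg.Agent.J4Rep Subgroup

local notation "J" => Cfsg.Spor.J4

/-- Only the identity commutes with both matrices, up to a scalar. -/
noncomputable def lamB : Bool :=
  allB (fun q => cond (allB (fun i =>
      CosetCert.force (Nat.pow 2 i) fun u =>
        Nat.beq (fapp (lamL q) (fapp aX u)) (fapp aX (fapp (lamL q) u)) &&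
          Nat.beq (fapp (lamL q) (fapp aY u)) (fapp aY (fapp (lamL q) u))) 11)
    (Nat.beq q 0 || Nat.beq q 1) true) 2048

theorem lam_ok : lamB = true := by decide +kernel

theorem lam_basis : ∀ i < 11, (lamL 1).getD i 0 = 2 ^ i := by decide +kernel

/-- How each basis mask comes from an earlier one. -/
def lamStep : List (Nat × Nat) :=
  [(0, 0), (0, 0), (1, 1), (0, 2), (1, 2), (1, 3), (0, 4), (0, 5), (1, 5), (1, 7), (0, 8)]

theorem lamStep_ok : ∀ i < 11, i ≠ 0 → (lamStep.getD i (0, 0)).2 < i ∧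
    (lamStep.getD i (0, 0)).1 < 2 ∧
    app (if (lamStep.getD i (0, 0)).1 = 0 then aX else aY) (2 ^ (lamStep.getD i (0, 0)).2) =
      2 ^ i := by
  decide +kernel

theorem lamL_step (q : Nat) : ∀ i < 11, i ≠ 0 → (lamL q).getD i 0 =
    app (if (lamStep.getD i (0, 0)).1 = 0 then aX else aY)
      ((lamL q).getD (lamStep.getD i (0, 0)).2 0) := by
  intro i hi h0
  interval_cases i <;> first | exact absurd rfl h0 | rfl

variable (h : Cfsg.IsJ4 J)
include h

theorem fix_normal {β : MulAut J} (hβ : ∀ a ∈ Vs h.1, β a ∈ Vs h.1) (hy : β gy = gy) {c : Nat}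
    (hc : c < 2 ^ 11) (hx : β gx = elV c * gx) : ∀ m < 2 ^ 11, β (elV m) = elV m := by
  have hex : ∀ m, ∃ n, n < 2 ^ 11 ∧ β (elV (m % 2 ^ 11)) = elV n := fun m => by
    obtain ⟨n, hn, he⟩ := hβ _ (elV_mem h.1 (Nat.mod_lt m (Nat.two_pow_pos 11)))
    exact ⟨n, hn, he.symm⟩
  choose lam hlt hlam using hex
  have hadd : ∀ a b, lam (a ^^^ b) = lam a ^^^ lam b := fun a b => by
    refine elV_inj h.1 (hlt _) (Nat.xor_lt_two_pow (hlt a) (hlt b)) ?_
    rw [← elV_mul h.1, ← hlam, ← hlam, ← hlam, ← map_mul, elV_mul h.1, ← Nat.xor_mod_two_pow]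
  have hof : ∀ m < 2 ^ 11, β (elV m) = elV (lam m) := fun m hm => by
    rw [← hlam, Nat.mod_eq_of_lt hm]
  have hX : ∀ m < 2 ^ 11, lam (app aX m) = app aX (lam m) := fun m hm => by
    refine elV_inj h.1 (hlt _) (app_aX_lt _) ?_
    rw [← hof _ (app_aX_lt m), ← conj_gx h.1 hm, map_mul, map_mul, map_inv, hx, hof m hm,
      mul_inv_rev, elV_inv h.1,
      show elV c * gx * elV (lam m) * (gx⁻¹ * elV c) = elV c * (gx * elV (lam m) * gx⁻¹) * elV c by
        simp only [mul_assoc],
      conj_gx h.1 (hlt m), elV_mul h.1, elV_mul h.1, Nat.xor_comm c, Nat.xor_assoc, Nat.xor_self,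
      Nat.xor_zero]
  have hY : ∀ m < 2 ^ 11, lam (app aY m) = app aY (lam m) := fun m hm => by
    refine elV_inj h.1 (hlt _) (app_aY_lt _) ?_
    rw [← hof _ (app_aY_lt m), ← conj_gy h.1 hm, map_mul, map_mul, map_inv, hy, hof m hm,
      conj_gy h.1 (hlt m)]
  have hp : ∀ i < 11, (2 : Nat) ^ i < 2 ^ 11 := fun i hi => Nat.pow_lt_pow_right (by norm_num) hi
  have hbasis : ∀ i, i < 11 → (lamL (lam 1)).getD i 0 = lam (2 ^ i) := by
    intro i
    induction i using Nat.strong_induction_on with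
    | _ i ih =>
      intro hi
      rcases eq_or_ne i 0 with rfl | h0
      · rfl
      · obtain ⟨hlt', -, he⟩ := lamStep_ok i hi h0
        have hj := hlt'.trans hi
        rw [lamL_step _ i hi h0, ih _ hlt' hj, ← he]
        split_ifs
        · exact (hX _ (hp _ hj)).symm
        · exact (hY _ (hp _ hj)).symm
  have hall : ∀ m < 2 ^ 11, app (lamL (lam 1)) m = lam m := fun m hm =>
    eq_of_units (app_xor _) hadd (fun i hi => by rw [app_two_pow, hbasis i hi]) hm
  have hq := (allB_iff _ _).1 lam_ok (lam 1) (hlt 1)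
  rw [(allB_iff _ _).2 fun i hi => ?_, cond_true, Bool.or_eq_true] at hq
  swap
  · rw [CosetCert.force_eq, Bool.and_eq_true]
    simp only [fapp_eq]
    refine ⟨?_, ?_⟩
    · show Nat.beq (app _ (app aX (2 ^ i))) (app aX (app _ (2 ^ i))) = true
      rw [hall _ (app_aX_lt _), hall _ (hp i hi), hX _ (hp i hi)]
      exact Nat.beq_refl _
    · show Nat.beq (app _ (app aY (2 ^ i))) (app aY (app _ (2 ^ i))) = true
      rw [hall _ (app_aY_lt _), hall _ (hp i hi), hY _ (hp i hi)]
      exact Nat.beq_refl _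
  rcases hq with hq | hq
  · have h0 := Nat.eq_of_beq_eq_true hq
    have h1 := hof 1 (by norm_num)
    rw [h0, elV_zero, ← map_one β] at h1
    exact absurd (β.injective h1) (elV_ne_one (by norm_num) (by norm_num))
  · intro m hm
    rw [hof m hm, ← hall m hm, Nat.eq_of_beq_eq_true hq]
    congr 1
    refine eq_of_units (app_xor _) (g := fun v => v) (fun _ _ => rfl) (fun i hi => ?_) hm
    rw [app_two_pow, lam_basis i hi]

end Cfsg.Agent.J4Out
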