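import Cfsg.Agent.J4Out.Normal
import Cfsg.Agent.J4Out.Cert
import Cfsg.Agent.J4Out.CheckCert0
import Cfsg.Agent.J4Out.CheckCert1
import Cfsg.Agent.J4Out.CheckInj0a
import Cfsg.Agent.J4Out.CheckInj0b
import Cfsg.Agent.J4Out.CheckInj0c
import Cfsg.Agent.J4Out.CheckInj0d
import Cfsg.Agent.J4Out.CheckInj1a
import Cfsg.Agent.J4Out.CheckInj1b
import Cfsg.Agent.J4Out.CheckInj1c
import Cfsg.Agent.J4Out.CheckInj1d
import Cfsg.Agent.J4Out.CheckChain
import Cfsg.Prelude.Def_Sporadic

/-!
# The image of t is forced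
-/

set_option autoImplicit false
set_option maxRecDepth 100000

namespace Cfsg.Agent.J4Out

open Cfsg.Agent.J4Rep

local notation "J" => Cfsg.Spor.J4

theorem small_letters : ∀ k ∈ [0, 17, 18, 21], smallB 112 (mt k) = true := by decide +kernel

theorem gen_small0 : ∀ g, ∀ c ∈ cert0.gen g, c < 2 ^ 112 := by
  intro g c hc
  unfold CCert.gen at hc
  cases hg : Nat.beq g 0 <;> rw [hg] at hc
  · exact Nat.le_of_ble_eq_true (List.all_eq_true.1 (small_letters 17 (by simp)) c hc)
  · exact Nat.le_of_ble_eq_true (List.all_eq_true.1 (small_letters 0 (by simp)) c hc)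

theorem gen_small1 : ∀ g, ∀ c ∈ cert1.gen g, c < 2 ^ 112 := by
  intro g c hc
  unfold CCert.gen at hc
  cases hg : Nat.beq g 0 <;> rw [hg] at hc
  · exact Nat.le_of_ble_eq_true (List.all_eq_true.1 (small_letters 21 (by simp)) c hc)
  · exact Nat.le_of_ble_eq_true (List.all_eq_true.1 (small_letters 18 (by simp)) c hc)

/-- The conditions on a candidate. -/
theorem comm_fn (hs : IsSimpleGroup J) {τ : J} {a b : Nat} (ha : a < 22) (hb : b < 22)
    (hA : Commute τ (el a)) (hB : Commute τ (el b)) (C : CCert) (hCa : C.gA = a) (hCb : C.gB = b) :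
    ∀ g, ∀ v < 2 ^ 112, fn τ (app (C.gen g) v) = app (C.gen g) (fn τ v) := by
  intro g v hv
  have key : ∀ k < 22, Commute τ (el k) → fn τ (app (mt k) v) = app (mt k) (fn τ v) := by
    intro k hk hc
    rw [← reps_el k hk v hv, ← fn_mul, hc.eq, fn_mul, reps_el k hk _ (fn_lt τ v)]
  unfold CCert.gen
  cases Nat.beq g 0
  · rw [cond_false, hCb]; exact key b hb hB
  · rw [cond_true, hCa]; exact key a ha hA

theorem not_fail (hs : IsSimpleGroup J) {τ : J} {w wi c : Nat} (hw : w < 22) (hwi : wi < 22)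
    (hsq : τ * τ = 1) (hu : el 6 = el 1 * el wi * τ * el w * (el 1 * el wi * τ * el w) *
      (el 1 * el wi * τ * el w)) (C : CCert)
    (hc : ∀ v < 2 ^ 112, fn τ v = C.comb c v) : C.failB w wi c = false := by
  have h1 : (1 : Nat) < 2 ^ 112 := by norm_num
  have r1 : ∀ v < 2 ^ 112, frun mt [w] v = fn (el w) v := fun v hv => by
    rw [frun_eq, reps_el w hw v hv, run_cons]; rfl
  have r2 : ∀ v < 2 ^ 112, frun mt [1, wi] v = fn (el 1) (fn (el wi) v) := fun v hv => by
    rw [frun_eq, reps_el wi hwi v hv, reps_el 1 (by norm_num) _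
      ((reps_el wi hwi v hv) ▸ fn_lt _ _), run_cons, run_cons]
    rfl
  have h6 : frun mt [6] 1 = fn (el 6) 1 := by
    rw [frun_eq, reps_el 6 (by norm_num) 1 h1, run_cons]; rfl
  rw [CCert.failB, Bool.or_eq_false_iff, Bool.not_eq_false', Bool.not_eq_false']
  simp only [CosetCert.force_eq]
  refine ⟨?_, ?_⟩
  · rw [← hc 1 h1, ← hc _ (fn_lt τ 1), ← fn_mul, hsq, fn_one h1]
    exact Nat.beq_refl _
  · rw [h6, hu]
    simp only [fn_mul]
    rw [show Nat.pow 2 0 = 1 from rfl, r1 1 h1, ← hc _ (fn_lt _ _), r2 _ (fn_lt _ _),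
      r1 _ (fn_lt _ _), ← hc _ (fn_lt _ _), r2 _ (fn_lt _ _), r1 _ (fn_lt _ _), ← hc _ (fn_lt _ _),
      r2 _ (fn_lt _ _)]
    exact Nat.beq_refl _

/-- No element fits the other lift of `x`. -/
theorem no_lift (hs : IsSimpleGroup J) {τ : J} (hA : Commute τ (el 18)) (hB : Commute τ (el 21))
    (hsq : τ * τ = 1) (hu : el 6 = el 1 * el 20 * τ * el 19 * (el 1 * el 20 * τ * el 19) *
      (el 1 * el 20 * τ * el 19)) : False := by
  obtain ⟨c, hc, he⟩ := cert1.exists_comb base1_ok ⟨inj1a_ok, inj1b_ok, inj1c_ok, inj1d_ok⟩ sol1_ok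
    (by decide +kernel) gen_small1 (fn τ) (fn_add τ) (fn_lt τ)
    (comm_fn hs (by norm_num) (by norm_num) hA hB cert1 rfl rfl)
  have h1 := (allB_iff _ _).1 case1_ok c hc
  rw [not_fail hs (by norm_num) (by norm_num) hsq hu cert1 he] at h1
  exact absurd h1 (by simp)

theorem pow_bits (g : J) (N : Nat) : ∀ n,
    ((bitsOf N n).map fun k => g ^ 2 ^ k).prod = g ^ (N % 2 ^ n) := by
  intro n
  induction n with
  | zero => simp [bitsOf, Nat.mod_one]
  | succ n ih =>
    have hm : N % 2 ^ (n + 1) = 2 ^ n * (N.testBit n).toNat + N % 2 ^ n := by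
      rw [pow_succ, Nat.mod_mul, Nat.toNat_testBit]
      ring
    rw [bitsOf_succ, hm]
    cases N.testBit n
    · simp [ih]
    · simp [List.map_cons, List.prod_cons, ih, pow_add]

/-- The impostor is not in the group. -/
theorem no_impostor (h : Cfsg.IsJ4 J) {τ : J} (hτ : Reps τ altT) : False := by
  have : Finite J := Nat.finite_of_card_ne_zero (by rw [h.2]; norm_num)
  let g := τ * gx * gy * gt * gy
  let E : Nat → J := fun k => if k < 67 then g ^ 2 ^ k else [τ, gx, gy, gt].getD (k - 67) 1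
  have hmat : ∀ k, ¬ k < 67 → chainMat k = [altT, mt 0, mt 1, mt 3].getD (k - 67) [] := by
    intro k hk
    unfold chainMat
    rw [show Nat.blt k 67 = false by rw [← Bool.not_eq_true]; exact fun h => hk (Nat.le_of_ble_eq_true h)]
    rfl
  have hrel : ∀ j ∈ [67, 68, 69, 70, 69], Reps (E j) (chainMat j) := by
    intro j hj
    simp only [List.mem_cons, List.not_mem_nil, or_false] at hj
    rcases hj with rfl | rfl | rfl | rfl | rfl
    · exact hτ
    · exact reps_base 0 (by norm_num)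
    · exact reps_base 1 (by norm_num)
    · exact reps_base 3 (by norm_num)
    · exact reps_base 1 (by norm_num)
  have hend := chainEnd_ok
  rw [chainEndB, Bool.and_eq_true] at hend
  have h0 : Reps (E 0) (chainMat 0) := reps_of_eqB hrel (by
    show g ^ 2 ^ 0 = τ * (gx * (gy * (gt * (gy * 1))))
    simp [g, mul_assoc]) hend.1
  have hk : ∀ k, k < 67 → Reps (E k) (chainMat k) := by
    intro k
    induction k with
    | zero => exact fun _ => h0
    | succ k ih =>
      intro hlt
      have hc := (allB_iff _ _).1 chainA_ok k (by omega)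
      simp only [Nat.zero_add] at hc
      refine reps_of_eqB (fun j hj => ?_) ?_ hc
      · simp only [List.mem_cons, List.not_mem_nil, or_false, or_self] at hj
        subst hj
        exact ih (by omega)
      · show E (k + 1) = E k * (E k * 1)
        simp only [E, if_pos hlt, if_pos (show k < 67 by omega), mul_one]
        rw [pow_succ, mul_two, pow_add]
  have h1 : fn (ev E (bitsOf ordN 67)) 1 = run chainMat (bitsOf ordN 67) 1 :=
    fn_ev (fun j hj => hk j ((mem_bitsOf _ _ _).1 hj).1) (by norm_num)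
  have h2 : ev E (bitsOf ordN 67) = 1 := by
    rw [ev, List.map_congr_left (g := fun k => g ^ 2 ^ k) fun j hj =>
      if_pos ((mem_bitsOf _ _ _).1 hj).1, pow_bits, Nat.mod_eq_of_lt (by norm_num [ordN]),
      show ordN = Nat.card J from h.2.symm, pow_card_eq_one']
  rw [h2, fn_one (by norm_num)] at h1
  rw [← frun_eq] at h1
  rw [← h1] at hend
  simp at hend

/-- The only candidate is `t`. -/
theorem eq_gt (h : Cfsg.IsJ4 J) {τ : J} (hA : Commute τ (el 0)) (hB : Commute τ (el 17))
    (hsq : τ * τ = 1) (hu : el 6 = el 1 * el 5 * τ * el 4 * (el 1 * el 5 * τ * el 4) *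
      (el 1 * el 5 * τ * el 4)) : τ = gt := by
  obtain ⟨c, hc, he⟩ := cert0.exists_comb base0_ok ⟨inj0a_ok, inj0b_ok, inj0c_ok, inj0d_ok⟩ sol0_ok
    (by decide +kernel) gen_small0 (fn τ) (fn_add τ) (fn_lt τ)
    (comm_fn h.1 (by norm_num) (by norm_num) hA hB cert0 rfl rfl)
  have h0 := case0_ok
  rw [case0B, Bool.and_eq_true] at h0
  have h1 := (allB_iff _ _).1 h0.1 c hc
  rw [not_fail h.1 (by norm_num) (by norm_num) hsq hu cert0 he, Bool.or_false, Bool.or_eq_true] at h1
  have hunits : ∀ i < 112, cert0.comb 110 (2 ^ i) = app (mt 3) (2 ^ i) ∧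
      cert0.comb 85 (2 ^ i) = app altT (2 ^ i) := by
    intro i hi
    have h2 := (allB_iff _ _).1 h0.2 i hi
    rw [CosetCert.force_eq, Bool.and_eq_true, fapp_eq, fapp_eq] at h2
    exact ⟨Nat.eq_of_beq_eq_true h2.1, Nat.eq_of_beq_eq_true h2.2⟩
  rcases h1 with h1 | h1
  · refine (no_impostor (τ := τ) h fun v hv => ?_).elim
    rw [he v hv, Nat.eq_of_beq_eq_true h1]
    exact eq_of_units (cert0.comb_xor 85) (app_xor _) (fun i hi => (hunits i hi).2) hv
  · refine eq_of_fn h.1 fun v hv => ?_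
    rw [he v hv, Nat.eq_of_beq_eq_true h1, ← el3, reps_el 3 (by norm_num) v hv]
    exact eq_of_units (cert0.comb_xor 110) (app_xor _) (fun i hi => (hunits i hi).1) hv

end Cfsg.Agent.J4Out
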