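import Cfsg.Agent.J4Out.Lin
import Cfsg.Agent.J4Rep.Linear

/-!
# Elements of the presented J4 compared through their matrices
-/

set_option autoImplicit false

namespace Cfsg.Agent.J4Out

open Cfsg.Agent.J4Rep

local notation "J" => Cfsg.Spor.J4

/-- The action of an element on the vectors, read modulo `2 ^ 112`. -/
noncomputable def fn (g : J) (v : Nat) : Nat :=
  ((rho g) ⟨v % 2 ^ 112, Nat.mod_lt _ (Nat.two_pow_pos _)⟩).1

theorem fn_lt (g : J) (v : Nat) : fn g v < 2 ^ 112 := ((rho g) _).2

theorem fn_add (g : J) (a b : Nat) : fn g (a ^^^ b) = fn g a ^^^ fn g b := by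
  have h := congrArg Subtype.val (rho_mem g ⟨a % 2 ^ 112, Nat.mod_lt _ (Nat.two_pow_pos _)⟩
    ⟨b % 2 ^ 112, Nat.mod_lt _ (Nat.two_pow_pos _)⟩)
  simp only [xv] at h
  unfold fn
  rw [← h]
  congr 2
  exact Subtype.ext Nat.xor_mod_two_pow

theorem fn_mul (g k : J) (v : Nat) : fn (g * k) v = fn g (fn k v) := by
  unfold fn
  rw [map_mul, Equiv.Perm.mul_apply]
  congr 2
  exact Subtype.ext (Nat.mod_eq_of_lt ((rho k) _).2).symm

theorem fn_one {v : Nat} (hv : v < 2 ^ 112) : fn (1 : J) v = v := by
  unfold fn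
  rw [map_one]
  exact Nat.mod_eq_of_lt hv

theorem rho_injective (hs : IsSimpleGroup J) : Function.Injective rho := by
  rw [← MonoidHom.ker_eq_bot_iff]
  rcases rho.normal_ker.eq_bot_or_eq_top with h | h
  · exact h
  · refine absurd ?_ genPerm_x_ne_one
    rw [← rho_of]
    exact (MonoidHom.mem_ker (f := rho)).1 (h ▸ Subgroup.mem_top _)

/-- Elements with the same action are equal. -/
theorem eq_of_fn (hs : IsSimpleGroup J) {g k : J} (h : ∀ v < 2 ^ 112, fn g v = fn k v) :
    g = k := by
  refine rho_injective hs (Equiv.ext fun v => Subtype.ext ?_)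
  have := h v.1 v.2
  unfold fn at this
  rw [show (⟨v.1 % 2 ^ 112, Nat.mod_lt _ (Nat.two_pow_pos _)⟩ : Vec 112) = v from
    Subtype.ext (Nat.mod_eq_of_lt v.2)] at this
  exact this

/-- The product of the elements of a word. -/
def ev (el : Nat → J) (w : List Nat) : J := (w.map el).prod

theorem ev_nil (el : Nat → J) : ev el [] = 1 := rfl

theorem ev_cons (el : Nat → J) (k : Nat) (w : List Nat) : ev el (k :: w) = el k * ev el w := rfl

theorem ev_append (el : Nat → J) (w z : List Nat) : ev el (w ++ z) = ev el w * ev el z := by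
  simp [ev]

theorem ev_congr {el el' : Nat → J} {w : List Nat} (h : ∀ k ∈ w, el k = el' k) :
    ev el w = ev el' w := by
  unfold ev
  rw [List.map_congr_left h]

/-- The matrix `M` is the matrix of `g`. -/
def Reps (g : J) (M : List Nat) : Prop := ∀ v < 2 ^ 112, fn g v = app M v

theorem fn_ev {el : Nat → J} {Mt : Nat → List Nat} {w : List Nat}
    (hw : ∀ k ∈ w, Reps (el k) (Mt k)) {v : Nat} (hv : v < 2 ^ 112) :
    fn (ev el w) v = run Mt w v := by
  induction w with
  | nil => exact fn_one hv
  | cons k w ih =>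
    have ih' := ih fun x hx => hw x (List.mem_cons_of_mem _ hx)
    rw [ev_cons, fn_mul, run_cons, ← hw k List.mem_cons_self _ (ih' ▸ fn_lt _ _), ih']

/-- Apply a matrix to all fields, each shift evaluated at once. -/
noncomputable def fsapp (m : Nat) (C : List Nat) (S : Nat) : Nat :=
  List.rec (motive := fun _ => Nat → Nat) (fun _ => 0)
    (fun c _ ih S => CosetCert.force S fun S =>
      CosetCert.force (ih (Nat.shiftRight S 1)) fun r =>
        Nat.xor (Nat.mul (Nat.land S m) c) r) C S

theorem fsapp_eq (m : Nat) (C : List Nat) : ∀ S, fsapp m C S = sapp m C S := by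
  induction C with
  | nil => intro S; rfl
  | cons c C ih =>
    intro S
    show CosetCert.force S (fun S => CosetCert.force (fsapp m C (Nat.shiftRight S 1)) fun r =>
      Nat.xor (Nat.mul (Nat.land S m) c) r) = _
    rw [CosetCert.force_eq, CosetCert.force_eq, sapp_cons, ih]
    rfl

/-- Apply the matrices of a word to all fields. -/
noncomputable def fsrun (m : Nat) (Mt : Nat → List Nat) (w : List Nat) (S : Nat) : Nat :=
  List.rec (motive := fun _ => Nat) S
    (fun a _ ih => CosetCert.force ih fun r => fsapp m (Mt a) r) w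

theorem fsrun_eq (m : Nat) (Mt : Nat → List Nat) (w : List Nat) (S : Nat) :
    fsrun m Mt w S = srun m Mt w S := by
  induction w with
  | nil => rfl
  | cons a w ih =>
    show CosetCert.force (fsrun m Mt w S) (fun r => fsapp m (Mt a) r) = _
    rw [CosetCert.force_eq, fsapp_eq, ih, srun_cons]

/-- The first `d` unit vectors side by side. -/
noncomputable def packUnits (d : Nat) : Nat := pk d (units d)

/-- Two words have the same matrix. -/
noncomputable def eqB (Mt : Nat → List Nat) (w z : List Nat) : Bool :=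
  cond ((w ++ z).all fun a => Nat.ble (Mt a).length 112 && smallB 112 (Mt a))
    (CosetCert.force (pk 112 (List.replicate 112 1)) fun m =>
      CosetCert.force (packUnits 112) fun S =>
        CosetCert.force (fsrun m Mt w S) fun L => Nat.beq L (fsrun m Mt z S)) false

theorem srun_units {Mt : Nat → List Nat} {d : Nat} : ∀ w : List Nat,
    (∀ a ∈ w, (Mt a).length ≤ d ∧ ∀ c ∈ Mt a, c < 2 ^ d) →
      (∀ x ∈ units d, run Mt w x < 2 ^ d) ∧
        srun (pk d (List.replicate d 1)) Mt w (pk d (units d)) =
          pk d ((units d).map fun x => run Mt w x) := by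
  have hU : ∀ x ∈ units d, x < 2 ^ d := by
    intro x hx
    obtain ⟨i, hi, rfl⟩ := List.mem_map.1 hx
    exact Nat.pow_lt_pow_right (by norm_num) (List.mem_range.1 hi)
  intro w
  induction w with
  | nil =>
    intro _
    exact ⟨hU, (congrArg (pk d) (List.map_id' _)).symm⟩
  | cons a u ih =>
    intro hu
    obtain ⟨hlt, heq⟩ := ih fun x hx => hu x (List.mem_cons_of_mem _ hx)
    obtain ⟨hl, hc⟩ := hu a List.mem_cons_self
    refine ⟨fun x _ => by rw [run_cons]; exact app_lt hc _, ?_⟩
    have h := sapp_spec ((units d).map fun x => run Mt u x) (by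
      intro x hx
      obtain ⟨y, hy, rfl⟩ := List.mem_map.1 hx
      exact hlt y hy) (Mt a) 0 hc (by omega)
    rw [List.length_map, show (units d).length = d by simp [units], Nat.shiftRight_zero] at h
    rw [srun_cons, heq, h, List.map_map]
    refine congrArg (pk d) (List.map_congr_left fun x _ => ?_)
    rw [Function.comp_apply, run_cons, Nat.shiftRight_zero]

theorem run_eq_of_eqB {Mt : Nat → List Nat} {w z : List Nat} (h : eqB Mt w z = true) {v : Nat}
    (hv : v < 2 ^ 112) : run Mt w v = run Mt z v := by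
  unfold eqB at h
  cases hw : ((w ++ z).all fun a => Nat.ble (Mt a).length 112 && smallB 112 (Mt a))
  · simp [hw] at h
  rw [hw, cond_true, CosetCert.force_eq, CosetCert.force_eq, CosetCert.force_eq,
    fsrun_eq, fsrun_eq] at h
  have hfit : ∀ a ∈ w ++ z, (Mt a).length ≤ 112 ∧ ∀ c ∈ Mt a, c < 2 ^ 112 := by
    intro a ha
    have := List.all_eq_true.1 hw a ha
    simp only [Bool.and_eq_true, Nat.ble_eq] at this
    exact ⟨this.1, fun c hc => Nat.le_of_ble_eq_true (List.all_eq_true.1 this.2 c hc)⟩
  obtain ⟨hwl, hwe⟩ := srun_units (d := 112) w fun a ha => hfit a (List.mem_append_left _ ha)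
  obtain ⟨hzl, hze⟩ := srun_units (d := 112) z fun a ha => hfit a (List.mem_append_right _ ha)
  have he : (units 112).map (fun x => run Mt w x) = (units 112).map fun x => run Mt z x := by
    refine pk_inj (d := 112) ?_ ?_ (by simp) (hwe.symm.trans ((Nat.eq_of_beq_eq_true h).trans hze))
    · intro x hx; obtain ⟨y, hy, rfl⟩ := List.mem_map.1 hx; exact hwl y hy
    · intro x hx; obtain ⟨y, hy, rfl⟩ := List.mem_map.1 hx; exact hzl y hy
  refine eq_of_units (run_xor Mt w) (run_xor Mt z) (fun i hi => ?_) hv
  exact (List.map_inj_left.1 he) (2 ^ i) (List.mem_map.2 ⟨i, List.mem_range.2 hi, rfl⟩)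

/-- A letter defined by a word. -/
theorem reps_of_eqB {el : Nat → J} {Mt : Nat → List Nat} {k : Nat} {w : List Nat}
    (hw : ∀ j ∈ w, Reps (el j) (Mt j)) (hk : el k = ev el w) (h : eqB Mt [k] w = true) :
    Reps (el k) (Mt k) := by
  intro v hv
  rw [hk, fn_ev hw hv, ← run_eq_of_eqB h hv, run_cons]
  rfl

/-- Words with the same matrix are equal in the group. -/
theorem ev_eq_of_eqB (hs : IsSimpleGroup J) {el : Nat → J} {Mt : Nat → List Nat} {w z : List Nat}
    (hw : ∀ j ∈ w, Reps (el j) (Mt j)) (hz : ∀ j ∈ z, Reps (el j) (Mt j))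
    (h : eqB Mt w z = true) : ev el w = ev el z :=
  eq_of_fn hs fun v hv => by rw [fn_ev hw hv, fn_ev hz hv, run_eq_of_eqB h hv]

end Cfsg.Agent.J4Out
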