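import Cfsg.Agent.J4Out.Data
import Cfsg.Agent.J4Out.Rep

/-!
# The letters
-/

set_option autoImplicit false
set_option maxRecDepth 100000

namespace Cfsg.Agent.J4Out

open Cfsg.Agent.J4Rep

local notation "J" => Cfsg.Spor.J4

/-- The matrices of the letters. -/
noncomputable def mt (k : Nat) : List Nat :=
  [colsX, colsY, colsYi, colsT, mat4, mat5, mat6, mat7, mat8, mat9, mat10, mat11, mat12, mat13,
    mat14, mat15, mat16, mat17, mat18, mat19, mat20, mat21].getD k []

/-- The generators. -/
abbrev gx : J := PresentedGroup.of Cfsg.Spor.J4.Gen.x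

/-- The generators. -/
abbrev gy : J := PresentedGroup.of Cfsg.Spor.J4.Gen.y

/-- The generators. -/
abbrev gt : J := PresentedGroup.of Cfsg.Spor.J4.Gen.t

/-- The four first letters. -/
def base : Nat → J
  | 0 => gx
  | 1 => gy
  | 2 => gy⁻¹
  | _ => gt

/-- The letters. -/
def el (k : Nat) : J := ev base (expW.getD k [])

theorem fn_of (g : Cfsg.Spor.J4.Gen) {v : Nat} (hv : v < 2 ^ 112) :
    fn (PresentedGroup.of g) v = (genPerm g ⟨v, hv⟩).1 := by
  unfold fn
  rw [rho_of]
  congr 2
  exact Subtype.ext (Nat.mod_eq_of_lt hv)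

theorem reps_base : ∀ k < 4, Reps (base k) (mt k)
  | 0, _ => fun v hv => by
    show fn gx v = app colsX v
    rw [fn_of _ hv]; rfl
  | 1, _ => fun v hv => by
    show fn gy v = app colsY v
    rw [fn_of _ hv]; rfl
  | 2, _ => fun v hv => by
    show fn gy⁻¹ v = app colsYi v
    unfold fn
    rw [map_inv, rho_of]
    show app colsYi (v % 2 ^ 112) = _
    rw [Nat.mod_eq_of_lt hv]
  | 3, _ => fun v hv => by
    show fn gt v = app colsT v
    rw [fn_of _ hv]; rfl

theorem el_of_lt : ∀ k < 4, el k = base k
  | 0, _ => mul_one _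
  | 1, _ => mul_one _
  | 2, _ => mul_one _
  | 3, _ => mul_one _

theorem ev_flatMap (w : List Nat) (f : Nat → List Nat) :
    ev base (w.flatMap f) = ev (fun k => ev base (f k)) w := by
  induction w with
  | nil => rfl
  | cons k w ih => rw [List.flatMap_cons, ev_append, ih, ev_cons]

/-- The expansions follow the definitions, whose letters come earlier. -/
noncomputable def shapeB : Bool :=
  allB (fun k => decide (k < 4) || (((shortW.getD k []).all fun j => decide (j < k)) &&
    decide (expW.getD k [] = (shortW.getD k []).flatMap fun j => expW.getD j []))) 22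

theorem shape_ok : shapeB = true := by decide +kernel

theorem el_short {k : Nat} (h4 : 4 ≤ k) (hk : k < 22) :
    el k = ev el (shortW.getD k []) ∧ ∀ j ∈ shortW.getD k [], j < k := by
  have h := (allB_iff _ _).1 shape_ok k hk
  rw [decide_eq_false (by omega), Bool.false_or, Bool.and_eq_true] at h
  refine ⟨?_, fun j hj => of_decide_eq_true (List.all_eq_true.1 h.1 j hj)⟩
  show ev base (expW.getD k []) = _
  rw [of_decide_eq_true h.2, ev_flatMap]
  rfl

/-- The matrices follow the definitions. -/
noncomputable def defB (lo n : Nat) : Bool :=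
  allB (fun i => eqB mt [lo + i] (shortW.getD (lo + i) [])) n

end Cfsg.Agent.J4Out
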