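import Cfsg.Agent.J4Out.Normal

/-! The relations on `t` used, checked on matrices. -/

set_option autoImplicit false
set_option maxRecDepth 100000

namespace Cfsg.Agent.J4Out

/-- The relations. -/
noncomputable def tRelB : Bool :=
  eqB mt [3, 0] [0, 3] && eqB mt [3, 17] [17, 3] && eqB mt [3, 3] []

theorem tRel_ok : tRelB = true := by decide +kernel

end Cfsg.Agent.J4Out
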