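import Cfsg.Agent.J4Out.FixU
import Cfsg.Agent.J4Out.ImageT
import Cfsg.Agent.J4Out.TRels

/-!
# The outer automorphism group of the presented J4 is trivial
-/

set_option autoImplicit false
set_option maxRecDepth 100000

namespace Cfsg.Agent.J4Out

open Cfsg.Agent.J4Rep Subgroup

local notation "J" => Cfsg.Spor.J4

/-- The letters with `x` replaced by its other lift. -/
def swapX (k : Nat) : Nat := if k = 0 then 18 else k

theorem shortW_facts :
    (∀ k ∈ [4, 5, 17], ∀ j ∈ shortW.getD k [], j < 3) ∧
    shortW.getD 19 [] = (shortW.getD 4 []).map swapX ∧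
    shortW.getD 20 [] = (shortW.getD 5 []).map swapX ∧
    shortW.getD 21 [] = (shortW.getD 17 []).map swapX ∧
    shortW.getD 18 [] = bv 560 ++ [0] ∧
    shortW.getD 6 [] = [1, 5, 3, 4, 1, 5, 3, 4, 1, 5, 3, 4] := by
  decide +kernel

theorem map_ev (β : MulAut J) (σ : Nat → Nat) : ∀ w : List Nat,
    (∀ j ∈ w, β (el j) = el (σ j)) → β (ev el w) = ev el (w.map σ) := by
  intro w
  induction w with
  | nil => intro; exact map_one β
  | cons k w ih =>
    intro hw
    rw [List.map_cons, ev_cons, ev_cons, map_mul, hw k List.mem_cons_self,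
      ih fun x hx => hw x (List.mem_cons_of_mem _ hx)]

variable (h : Cfsg.IsJ4 J)
include h

theorem t_rels : Commute gt (el 0) ∧ Commute gt (el 17) ∧ gt * gt = 1 := by
  have hr := tRel_ok
  rw [tRelB, Bool.and_eq_true, Bool.and_eq_true] at hr
  refine ⟨?_, ?_, ?_⟩
  · have := rel h.1 (w := [3, 0]) (z := [0, 3]) (by simp) (by simp) hr.1.1
    simpa [ev, el3, Commute, SemiconjBy] using this
  · have := rel h.1 (w := [3, 17]) (z := [17, 3]) (by simp) (by simp) hr.1.2
    simpa [ev, el3, Commute, SemiconjBy] using this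
  · have := rel h.1 (w := [3, 3]) (z := []) (by simp) (by simp) hr.2
    simpa [ev, el3] using this

theorem u_eq : el 6 = el 1 * el 5 * gt * el 4 * (el 1 * el 5 * gt * el 4) *
    (el 1 * el 5 * gt * el 4) := by
  rw [(el_short (k := 6) (by norm_num) (by norm_num)).1, shortW_facts.2.2.2.2.2]
  simp [ev, el3, mul_assoc]

/-- An automorphism fixing `y` and the normal subgroup and moving `x` in the two possible ways is
trivial. -/
theorem eq_one_of_fixed {β : MulAut J} (hy : β gy = gy) (hV : ∀ m < 2 ^ 11, β (elV m) = elV m)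
    {c : Nat} (hc : c = 0 ∨ c = 560) (hx : β gx = elV c * gx) : β = 1 := by
  obtain ⟨hA, hB, hsq⟩ := t_rels h
  have h6 : β (el 6) = el 6 := by
    have := hV 1 (by norm_num)
    rwa [show elV 1 = el 6 from (elV_single (i := 0) (by norm_num))] at this
  have hu := congrArg β (u_eq h)
  rw [h6] at hu
  simp only [map_mul] at hu
  have hA' := hA.map β.toMonoidHom
  have hB' := hB.map β.toMonoidHom
  have hsq' : β gt * β gt = 1 := by rw [← map_mul, hsq, map_one]
  have h1 : β (el 1) = el 1 := by rw [el1, hy]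
  have h2 : β (el 2) = el 2 := by rw [el2, map_inv, hy]
  obtain ⟨hlt, h19, h20, h21, h18, -⟩ := shortW_facts
  rcases hc with rfl | rfl
  · rw [elV_zero, one_mul] at hx
    have h0 : β (el 0) = el 0 := by rw [el0, hx]
    have hfix : ∀ k ∈ [4, 5, 17], β (el k) = el k := by
      intro k hk
      have hk' : 4 ≤ k ∧ k < 22 := by
        simp only [List.mem_cons, List.not_mem_nil, or_false] at hk
        omega
      rw [(el_short hk'.1 hk'.2).1, map_ev β id _ fun j hj => ?_, List.map_id]
      have := hlt k hk j hj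
      interval_cases j
      exacts [h0, h1, h2]
    have hA2 : Commute (β gt) (el 0) := by rw [← h0]; exact hA'
    have hB2 : Commute (β gt) (el 17) := by rw [← hfix 17 (by simp)]; exact hB'
    have ht : β gt = gt := by
      refine eq_gt h hA2 hB2 hsq' ?_
      rw [h1, hfix 5 (by simp), hfix 4 (by simp)] at hu
      exact hu
    refine MulEquiv.ext fun g => ?_
    have hext : β.toMonoidHom = MonoidHom.id J := PresentedGroup.ext fun b => by
      cases b
      exacts [hx, hy, ht]
    exact DFunLike.congr_fun hext g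
  · exfalso
    have e18 : el 18 = elV 560 * gx := by
      rw [(el_short (k := 18) (by norm_num) (by norm_num)).1, h18, ev_append, ← elV_eq, ev_cons,
        ev_nil, el0, mul_one]
    have h0 : β (el 0) = el 18 := by rw [el0, hx, e18]
    have hmap : ∀ k k', 4 ≤ k → k < 22 → 4 ≤ k' → k' < 22 → k ∈ [4, 5, 17] →
        shortW.getD k' [] = (shortW.getD k []).map swapX → β (el k) = el k' := by
      intro k k' hk1 hk2 hk1' hk2' hk he
      rw [(el_short hk1 hk2).1, (el_short hk1' hk2').1, he]
      refine map_ev β swapX _ fun j hj => ?_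
      have := hlt k hk j hj
      interval_cases j
      exacts [h0, h1, h2]
    have e4 := hmap 4 19 (by norm_num) (by norm_num) (by norm_num) (by norm_num) (by simp) h19
    have e5 := hmap 5 20 (by norm_num) (by norm_num) (by norm_num) (by norm_num) (by simp) h20
    have e17 := hmap 17 21 (by norm_num) (by norm_num) (by norm_num) (by norm_num) (by simp) h21
    rw [h1, e5, e4] at hu
    exact no_lift h.1 (τ := β gt) (by rw [← h0]; exact hA') (by rw [← e17]; exact hB') hsq' hu

/-- Every automorphism is inner. -/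
theorem mem_inn (α : MulAut J) : α ∈ Cfsg.Inn J := by
  obtain ⟨g1, hg1⟩ := fix_Vs h α
  obtain ⟨k, hk, hmod⟩ := fix_mod h hg1
  have h2 : ∀ a ∈ Vs h.1, (MulAut.conj k * (MulAut.conj g1 * α) : MulAut J) a ∈ Vs h.1 :=
    fun a ha => Ks_conj_mem h hk (hg1 a ha)
  obtain ⟨g3, hV3, hy, c, hc, hx⟩ := fix_xy h h2 hmod
  have hc' : c < 2 ^ 11 := by rcases hc with rfl | rfl <;> norm_num
  have hone := eq_one_of_fixed h hy (fix_normal h hV3 hy hc' hx) hc hx
  refine ⟨(g3 * k * g1)⁻¹, ?_⟩
  rw [map_inv, map_mul, map_mul]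
  refine inv_eq_of_mul_eq_one_right ?_
  rw [mul_assoc, mul_assoc]
  exact hone

/-- The outer automorphism group is trivial. -/
theorem card_out : Nat.card (Cfsg.Out J) = 1 :=
  Subgroup.index_eq_one.2 (eq_top_iff.2 fun α _ => mem_inn h α)

end Cfsg.Agent.J4Out
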