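import Cfsg.Agent.J4Out.Sub
import Mathlib.LinearAlgebra.Matrix.GeneralLinearGroup.Card

/-!
# The normaliser of the subgroup of order 2048

The quotient by it is a linear group of dimension 11 over `GF(2)` in which an element of order 23
has normaliser of order at most 253, so the Sylow count leaves no room above M24.
-/

set_option autoImplicit false
set_option maxRecDepth 100000

namespace Cfsg.Agent.J4Out

open Cfsg.Agent.J4Rep Subgroup

local notation "J" => Cfsg.Spor.J4

variable (h : Cfsg.IsJ4 J)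

/-- The normaliser. -/
abbrev Nz : Subgroup J := normalizer (Vs h.1 : Set J)

theorem exists_img (g : Nz h) (m : Vec 11) :
    ∃ m' : Vec 11, (g : J) * elV m.1 * (g : J)⁻¹ = elV m'.1 := by
  obtain ⟨n, hn, hne⟩ := ((mem_normalizer_iff.1 g.2) _).1 (elV_mem h.1 m.2)
  exact ⟨⟨n, hn⟩, hne.symm⟩

/-- The mask of a conjugate. -/
noncomputable def img (g : Nz h) (m : Vec 11) : Vec 11 := (exists_img h g m).choose

theorem img_spec (g : Nz h) (m : Vec 11) :
    (g : J) * elV m.1 * (g : J)⁻¹ = elV (img h g m).1 :=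
  (exists_img h g m).choose_spec

theorem img_eq {g : Nz h} {m m' : Vec 11} (he : (g : J) * elV m.1 * (g : J)⁻¹ = elV m'.1) :
    img h g m = m' :=
  Subtype.ext (elV_inj h.1 (img h g m).2 m'.2 ((img_spec h g m).symm.trans he))

theorem img_mul (g k : Nz h) (m : Vec 11) : img h (g * k) m = img h g (img h k m) := by
  apply img_eq
  rw [← img_spec, ← img_spec]
  simp [mul_assoc]

theorem img_one (m : Vec 11) : img h 1 m = m := img_eq h (by simp)

/-- The action of the normaliser on the masks. -/
noncomputable def imgPerm : Nz h →* Equiv.Perm (Vec 11) where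
  toFun g :=
    { toFun := img h g
      invFun := img h g⁻¹
      left_inv := fun m => by rw [← img_mul, inv_mul_cancel, img_one]
      right_inv := fun m => by rw [← img_mul, mul_inv_cancel, img_one] }
  map_one' := Equiv.ext (img_one h)
  map_mul' g k := Equiv.ext (img_mul h g k)

theorem imgPerm_mem (g : Nz h) : imgPerm h g ∈ linPerms 11 := by
  intro a b
  refine img_eq h (g := g) (m := xv a b) ?_
  show (g : J) * elV (a.1 ^^^ b.1) * (g : J)⁻¹ = elV ((img h g a).1 ^^^ (img h g b).1)
  rw [← elV_mul h.1, ← elV_mul h.1, ← img_spec, ← img_spec]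
  simp [mul_assoc]

/-- The action by additive permutations. -/
noncomputable def act : Nz h →* linPerms 11 := (imgPerm h).codRestrict _ (imgPerm_mem h)

theorem act_apply (g : Nz h) (m : Vec 11) :
    (g : J) * elV m.1 * (g : J)⁻¹ = elV ((act h g).1 m).1 :=
  img_spec h g m

theorem mem_ker_act (g : Nz h) : g ∈ (act h).ker ↔ (g : J) ∈ Vs h.1 := by
  constructor
  · intro hg
    rw [← centralizer_Vs h]
    rintro _ ⟨m, hm, rfl⟩
    have h1 := act_apply h g ⟨m, hm⟩
    rw [(MonoidHom.mem_ker).1 hg] at h1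
    change (g : J) * elV m * (g : J)⁻¹ = elV m at h1
    exact (mul_inv_eq_iff_eq_mul.1 h1).symm
  · intro hg
    obtain ⟨n, -, hn⟩ := hg
    refine (MonoidHom.mem_ker).2 (Subtype.ext (Equiv.ext fun m => img_eq h ?_))
    rw [← hn, elV_mul h.1, elV_inv h.1, elV_mul h.1]
    show elV (n ^^^ m.1 ^^^ n) = elV m.1
    rw [Nat.xor_comm n m.1, Nat.xor_assoc, Nat.xor_self, Nat.xor_zero]

theorem card_ker_act : Nat.card (act h).ker = 2 ^ 11 := by
  rw [← card_Vs h.1]
  refine Nat.card_congr ⟨fun g => ⟨g.1.1, (mem_ker_act h g.1).1 g.2⟩,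
    fun a => ⟨⟨a.1, le_normalizer a.2⟩, (mem_ker_act h _).2 a.2⟩, fun g => rfl, fun a => rfl⟩

theorem card_Nz : Nat.card (Nz h) = Nat.card (act h).range * 2 ^ 11 := by
  rw [card_eq_card_quotient_mul_card_subgroup (act h).ker, card_ker_act,
    Nat.card_congr (QuotientGroup.quotientKerEquivRange (act h)).toEquiv]

theorem exists_factor : ∃ d, (d = 1 ∨ d = 31) ∧
    Nat.card (act h).range = d * 244823040 := by
  have := finite h
  obtain ⟨d, hd⟩ := card_dvd_of_le (Hs_le_normalizer h)
  rw [card_Hs] at hd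
  have hR : Nat.card (act h).range = d * 244823040 := by
    have := card_Nz h
    rw [hd] at this
    omega
  have h1 : d ∣ 173067389 := by
    have h2 := card_subgroup_dvd_card (Nz h)
    rw [hd, h.2, show (86775571046077562880 : ℕ) = 2 ^ 11 * 244823040 * 173067389 by norm_num]
      at h2
    exact Nat.dvd_of_mul_dvd_mul_left (by norm_num) h2
  have h2 : d * 244823040 ∣ Nat.card (GL (Fin 11) (ZMod 2)) := by
    rw [← hR]
    exact (card_subgroup_dvd_card _).trans (card_dvd_of_injective _ toGL_injective)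
  rw [Matrix.card_GL_field] at h2
  simp only [ZMod.card] at h2
  have h3 : d ∣ (∏ i : Fin 11, (2 ^ 11 - 2 ^ (i : ℕ))) / 244823040 :=
    Nat.dvd_div_of_mul_dvd (by rwa [mul_comm] at h2)
  have h4 := Nat.dvd_gcd h1 h3
  rw [show Nat.gcd 173067389 ((∏ i : Fin 11, (2 ^ 11 - 2 ^ (i : ℕ))) / 244823040) = 31 by
    decide +kernel] at h4
  exact ⟨d, (Nat.dvd_prime (by norm_num)).1 h4, hR⟩

/-- The matrix of an element of order 23. -/
def aA : List Nat := [2, 8, 64, 128, 1, 1024, 1109, 752, 4, 891, 1809]

/-- Its inverse. -/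
def aI : List Nat := [16, 1, 256, 2, 372, 1575, 4, 8, 667, 2015, 32]

/-- The unit vectors in terms of the first eleven translates of the first one. -/
def aUnit : List Nat := [1, 2, 1843, 4, 1393, 2022, 1157, 8, 1768, 1546, 1327]

/-- Apply a matrix `k` times. -/
noncomputable def iterA (A : List Nat) (k v : Nat) : Nat :=
  Nat.rec (motive := fun _ => Nat) v
    (fun _ ih => CosetCert.force ih fun r => fapp A r) k

theorem iterA_eq (A : List Nat) : ∀ k v, iterA A k v = (app A)^[k] v := by
  intro k v
  induction k with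
  | zero => rfl
  | succ k ih =>
    show CosetCert.force (iterA A k v) (fun r => fapp A r) = _
    rw [CosetCert.force_eq, fapp_eq, ih, Function.iterate_succ_apply']

theorem iterA_xor (A : List Nat) (k a b : Nat) :
    iterA A k (a ^^^ b) = iterA A k a ^^^ iterA A k b := by
  simp only [iterA_eq]
  induction k with
  | zero => rfl
  | succ k ih => simp only [Function.iterate_succ_apply', ih, app_xor]

theorem iterA_add (A : List Nat) (i j v : Nat) : iterA A (i + j) v = iterA A i (iterA A j v) := by
  simp only [iterA_eq, Function.iterate_add_apply]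

theorem aA_small : ∀ c ∈ aA, c < 2 ^ 11 := by decide +kernel

theorem iterA_lt (k : Nat) {v : Nat} (hv : v < 2 ^ 11) : iterA aA k v < 2 ^ 11 := by
  rw [iterA_eq]
  induction k with
  | zero => exact hv
  | succ k ih => rw [Function.iterate_succ_apply']; exact app_lt aA_small _

theorem a_order : ∀ v < 2 ^ 11, iterA aA 23 v = v := by decide +kernel

theorem a_comp : ∀ v < 2 ^ 11, app aX (app aY v) = app aA v ∧ app aI (app aA v) = v ∧
    app aA (app aI v) = v := by decide +kernel

theorem a_span : ∀ i < 11,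
    xs (fun k => iterA aA k 1) (bitsOf (aUnit.getD i 0) 11) = 2 ^ i := by decide +kernel

theorem a_span' : ∀ u < 2 ^ 11, ∃ l : List Nat, u = xs (fun k => iterA aA k 1) l := by
  intro u hu
  have happ : ∀ (f : Nat → Nat) (l₁ l₂ : List Nat), xs f (l₁ ++ l₂) = xs f l₁ ^^^ xs f l₂ := by
    intro f l₁ l₂
    induction l₁ with
    | nil => simp [xs_nil]
    | cons a l ih => rw [List.cons_append, xs_cons, xs_cons, ih, Nat.xor_assoc]
  have hl : ∀ l : List Nat, (∀ i ∈ l, i < 11) →
      ∃ l' : List Nat, xs (fun i => 2 ^ i) l = xs (fun k => iterA aA k 1) l' := by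
    intro l
    induction l with
    | nil => intro; exact ⟨[], rfl⟩
    | cons i l ih =>
      intro hh
      obtain ⟨l', hl'⟩ := ih fun x hx => hh x (List.mem_cons_of_mem _ hx)
      exact ⟨bitsOf (aUnit.getD i 0) 11 ++ l', by
        rw [happ, xs_cons, hl', a_span i (hh i List.mem_cons_self)]⟩
  obtain ⟨l', hl'⟩ := hl (bitsOf u 11) fun i hi => ((mem_bitsOf _ _ _).1 hi).1
  exact ⟨l', by rw [← hl', xs_bitsOf_two_pow, Nat.mod_eq_of_lt hu]⟩

theorem no_inversion : ∀ q < 2 ^ 11, q ≠ 0 →
    iterA aI 11 q ≠ xs (fun k => iterA aI k q) (bitsOf 739 11) := by decide +kernel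

theorem a_minpoly : iterA aA 11 1 = xs (fun k => iterA aA k 1) (bitsOf 739 11) := by
  decide +kernel

/-- An additive permutation on a number. -/
noncomputable def ap (σ : linPerms 11) (v : Nat) : Nat :=
  (σ.1 ⟨v % 2 ^ 11, Nat.mod_lt _ (Nat.two_pow_pos _)⟩).1

theorem ap_lt (σ : linPerms 11) (v : Nat) : ap σ v < 2 ^ 11 := (σ.1 _).2

theorem ap_xor (σ : linPerms 11) (a b : Nat) : ap σ (a ^^^ b) = ap σ a ^^^ ap σ b := by
  have h := congrArg Subtype.val (σ.2 ⟨a % 2 ^ 11, Nat.mod_lt _ (Nat.two_pow_pos _)⟩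
    ⟨b % 2 ^ 11, Nat.mod_lt _ (Nat.two_pow_pos _)⟩)
  simp only [xv] at h
  unfold ap
  rw [← h]
  congr 2
  exact Subtype.ext Nat.xor_mod_two_pow

theorem ap_mul (σ τ : linPerms 11) (v : Nat) : ap (σ * τ) v = ap σ (ap τ v) := by
  show (σ.1 (τ.1 _)).1 = _
  unfold ap
  congr 2
  exact Subtype.ext (Nat.mod_eq_of_lt (τ.1 _).2).symm

theorem ap_one {v : Nat} (hv : v < 2 ^ 11) : ap 1 v = v := Nat.mod_eq_of_lt hv

theorem ap_val (σ : linPerms 11) (v : Vec 11) : (σ.1 v).1 = ap σ v.1 := by
  unfold ap
  congr 2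
  exact Subtype.ext (Nat.mod_eq_of_lt v.2).symm

theorem eq_of_ap {σ τ : linPerms 11} (he : ∀ v < 2 ^ 11, ap σ v = ap τ v) : σ = τ :=
  Subtype.ext (Equiv.ext fun v => Subtype.ext (by rw [ap_val, ap_val, he _ v.2]))

theorem xs_comm {α β : Type*} (f : α → β → Nat) (L : List α) (l : List β) :
    xs (fun a => xs (f a) l) L = xs (fun b => xs (fun a => f a b) L) l := by
  induction L with
  | nil => simp only [xs_nil, xs_const, ite_self]
  | cons a L ih => simp only [xs_cons, ih, xs_xor]

theorem ap_commute_pow {σ α : linPerms 11} (hc : Commute σ α)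
    (hα : ∀ v < 2 ^ 11, ap α v = app aA v) : σ ^ (2 ^ 11) = σ := by
  have hαk : ∀ k v, v < 2 ^ 11 → ap (α ^ k) v = iterA aA k v := by
    intro k
    induction k with
    | zero => intro v hv; rw [pow_zero]; exact ap_one hv
    | succ k ih =>
      intro v hv
      rw [pow_succ', ap_mul, ih v hv, hα _ (iterA_lt k hv), iterA_eq, iterA_eq,
        Function.iterate_succ_apply']
  have hσk : ∀ k v, v < 2 ^ 11 → ap σ (iterA aA k v) = iterA aA k (ap σ v) := by
    intro k v hv
    rw [← hαk k v hv, ← ap_mul, (hc.pow_right k).eq, ap_mul, hαk k _ (ap_lt σ v)]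
  obtain ⟨l, hl⟩ := a_span' (ap σ 1) (ap_lt σ 1)
  -- the powers of `σ` are sums of powers of `α`
  have key : ∀ n u, u < 2 ^ 11 → ap (σ ^ (2 ^ n)) u = xs (fun j => iterA aA (2 ^ n * j) u) l := by
    intro n
    induction n with
    | zero =>
      intro u hu
      obtain ⟨L, rfl⟩ := a_span' u hu
      simp only [pow_zero, pow_one, one_mul]
      rw [map_xs (ap_xor σ)]
      have hswap : ∀ j, iterA aA j (xs (fun k => iterA aA k 1) L) =
          xs (fun k => iterA aA j (iterA aA k 1)) L := fun j => map_xs (iterA_xor aA j) _ _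
      rw [xs_congr fun j _ => hswap j, xs_congr fun k _ => hσk k 1 (by norm_num)]
      rw [hl, xs_congr fun k _ => map_xs (iterA_xor aA k) _ _, xs_comm]
      exact xs_congr fun j _ => xs_congr fun k _ => by
        rw [← iterA_add, ← iterA_add, add_comm]
    | succ n ih =>
      intro u hu
      rw [pow_succ, pow_mul, pow_two, ap_mul, ih _ (ap_lt _ _), ih u hu,
        xs_sq (fun j v => iterA aA (2 ^ n * j) v) (fun j => iterA_xor aA _) u l
          (fun a _ b _ => by rw [← iterA_add, ← iterA_add, add_comm])]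
      exact xs_congr fun j _ => by rw [← iterA_add, mul_two, add_mul]
  refine eq_of_ap fun u hu => ?_
  have h0 := key 0 u hu
  simp only [pow_zero, pow_one, one_mul] at h0
  rw [key 11 u hu, h0]
  refine xs_congr fun j _ => ?_
  rw [show 2 ^ 11 * j = 23 * (89 * j) + j by ring, iterA_add]
  have : ∀ m v, v < 2 ^ 11 → iterA aA (23 * m) v = v := by
    intro m
    induction m with
    | zero => intro v _; rfl
    | succ m ihm => intro v hv; rw [mul_add, mul_one, iterA_add, a_order v hv, ihm v hv]
  exact this _ _ (iterA_lt _ hu)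

theorem no_ap_inversion {σ α : linPerms 11} (hα : ∀ v < 2 ^ 11, ap α v = app aA v)
    (hc : σ * α = α⁻¹ * σ) : False := by
  have hαi : ∀ v < 2 ^ 11, ap α⁻¹ v = app aI v := by
    intro v hv
    have h1 : ap α (app aI v) = v := by
      rw [hα _ (app_lt (by decide +kernel) _), (a_comp v hv).2.2]
    conv_lhs => rw [← h1, ← ap_mul, inv_mul_cancel]
    exact ap_one (app_lt (by decide +kernel) _)
  have hk : ∀ k v, v < 2 ^ 11 → ap σ (iterA aA k v) = iterA aI k (ap σ v) := by
    intro k
    induction k with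
    | zero => intros; rfl
    | succ k ih =>
      intro v hv
      rw [iterA_eq, Function.iterate_succ_apply', ← iterA_eq, ← hα _ (iterA_lt k hv),
        ← ap_mul, hc, ap_mul, hαi _ (ap_lt _ _), ih v hv, iterA_eq, iterA_eq,
        Function.iterate_succ_apply']
  have hne : ap σ 1 ≠ 0 := by
    intro h0
    have h1 := congrArg (ap σ⁻¹) h0
    rw [← ap_mul, inv_mul_cancel, ap_one (by norm_num), map_zero_of_add (ap_xor σ⁻¹)] at h1
    exact absurd h1 (by norm_num)
  refine no_inversion _ (ap_lt σ 1) hne ?_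
  rw [← hk 11 1 (by norm_num), a_minpoly, map_xs (ap_xor σ)]
  exact xs_congr fun k _ => hk k 1 (by norm_num)

/-- A group with a self-centralising Sylow subgroup of order 23 without inversion. -/
theorem mod_twentythree {X : Type*} [Group X] [Finite X] {α : X} {d : Nat}
    (hd : d = 1 ∨ d = 31) (hX : Nat.card X = d * 244823040) (ho : orderOf α = 23)
    (hcent : ∀ g, Commute g α → g ^ 2048 = g) (hinv : ∀ g : X, g * α ≠ α⁻¹ * g) : d = 1 := by
  have := Fact.mk (show Nat.Prime 23 by norm_num)
  set P := zpowers α with hPdef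
  have hP : Nat.card P = 23 := by rw [Nat.card_zpowers, ho]
  have hfac : Nat.card P = 23 ^ (Nat.card X).factorization 23 := by
    rw [hP, hX]
    rcases hd with rfl | rfl
    · rw [show 1 * 244823040 = 23 * 10644480 by norm_num, Nat.factorization_mul (by norm_num)
        (by norm_num), Finsupp.add_apply, Nat.Prime.factorization_self (by norm_num),
        Nat.factorization_eq_zero_of_not_dvd (by norm_num)]
      rfl
    · rw [show 31 * 244823040 = 23 * 329978880 by norm_num, Nat.factorization_mul (by norm_num)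
        (by norm_num), Finsupp.add_apply, Nat.Prime.factorization_self (by norm_num),
        Nat.factorization_eq_zero_of_not_dvd (by norm_num)]
      rfl
  let S : Sylow 23 X := Sylow.ofCard P hfac
  have hcount : (normalizer (P : Set X)).index ≡ 1 [MOD 23] := by
    rw [show (normalizer (P : Set X)).index = Nat.card (Sylow 23 X) from
      (Sylow.card_eq_index_normalizer S).symm]
    exact card_sylow_modEq_one 23 X
  -- the centraliser is the Sylow subgroup
  have hC : ∀ g, Commute g α → g ∈ P := by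
    intro g hg
    have h2047 : g ^ 2047 = 1 := by
      have := hcent g hg
      rwa [show 2048 = 2047 + 1 from rfl, pow_succ, mul_eq_right] at this
    have h1 : g ^ Nat.card X = 1 := pow_card_eq_one'
    have h23 : g ^ 23 = 1 := by
      have := pow_gcd_eq_one.2 ⟨h2047, h1⟩
      rw [hX] at this
      rcases hd with rfl | rfl
      · simpa using this
      · simpa using this
    by_contra hgP
    let C : Subgroup X := centralizer {α}
    have hPC : P ≤ C := zpowers_le.2 (mem_centralizer_singleton_iff.2 rfl)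
    have hCp : IsPGroup 23 C := by
      intro c
      refine ⟨1, Subtype.ext ?_⟩
      have hc : Commute (c : X) α := mem_centralizer_singleton_iff.1 c.2
      have h1 : (c : X) ^ 2047 = 1 := by
        have := hcent _ hc
        rwa [show 2048 = 2047 + 1 from rfl, pow_succ, mul_eq_right] at this
      have := pow_gcd_eq_one.2 ⟨h1, (pow_card_eq_one' (G := X) (x := (c : X)))⟩
      rw [hX] at this
      rcases hd with rfl | rfl <;> simpa using this
    have := S.3 hCp hPC
    have hgC : g ∈ C := mem_centralizer_singleton_iff.2 hg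
    rw [this] at hgC
    exact hgP hgC
  set N := normalizer (P : Set X) with hN
  have hPN : P ≤ N := le_normalizer
  have hmap : ∀ g ∈ N, ∃ k : ℕ, g * α * g⁻¹ = α ^ k ∧ ¬ 23 ∣ k := by
    intro g hg
    obtain ⟨k, hk⟩ := (Submonoid.mem_powers_iff _ _).1
      (mem_powers_iff_mem_zpowers.2 (((mem_normalizer_iff.1 hg) α).1 (mem_zpowers α)))
    refine ⟨k, hk.symm, fun h23 => ?_⟩
    have : g * α * g⁻¹ = 1 := by
      rw [← hk, ← ho] at *
      exact orderOf_dvd_iff_pow_eq_one.1 h23
    have h1 : α = 1 := by simpa using this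
    rw [h1, orderOf_one] at ho
    exact absurd ho (by norm_num)
  -- elevenths powers centralise
  have h11 : ∀ g ∈ N, g ^ 11 ∈ P := by
    intro g hg
    obtain ⟨k, hk, h23⟩ := hmap g hg
    have hpow : ∀ n : ℕ, g ^ n * α * (g ^ n)⁻¹ = α ^ (k ^ n) := by
      intro n
      induction n with
      | zero => simp
      | succ n ih =>
        rw [pow_succ' g, show g * g ^ n * α * (g * g ^ n)⁻¹ =
          g * (g ^ n * α * (g ^ n)⁻¹) * g⁻¹ by group, ih, ← conj_pow, hk, ← pow_mul, pow_succ']
    have hk0 : (k : ZMod 23) ≠ 0 := by rwa [Ne, ZMod.natCast_eq_zero_iff]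
    have hsq : ((k : ZMod 23) ^ 11) ^ 2 = 1 := by
      rw [← pow_mul]; exact ZMod.pow_card_sub_one_eq_one hk0
    rcases sq_eq_one_iff.1 hsq with h1 | h1
    · refine hC _ (mul_inv_eq_iff_eq_mul.1 ?_)
      have h2 : α ^ (k ^ 11) = α ^ 1 := by
        rw [pow_eq_pow_iff_modEq, ho]
        exact (ZMod.natCast_eq_natCast_iff _ _ _).1 (by simpa using h1)
      rw [hpow, h2, pow_one]
    · refine absurd ?_ (hinv (g ^ 11))
      have : α ^ (k ^ 11) = α⁻¹ := by
        refine eq_inv_of_mul_eq_one_left ?_
        rw [← pow_succ]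
        refine orderOf_dvd_iff_pow_eq_one.1 ?_
        rw [ho, ← ZMod.natCast_eq_zero_iff]
        push_cast
        rw [h1, neg_add_cancel]
      rw [← this, ← hpow 11, inv_mul_cancel_right]
  have : (P.subgroupOf N).Normal := normal_in_normalizer
  have hq : IsPGroup 11 (N ⧸ P.subgroupOf N) := by
    intro q
    induction q using QuotientGroup.induction_on with
    | _ g =>
      refine ⟨1, ?_⟩
      rw [pow_one, ← QuotientGroup.mk_pow, QuotientGroup.eq_one_iff, mem_subgroupOf]
      exact h11 g g.2
  have := Fact.mk (show Nat.Prime 11 by norm_num)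
  obtain ⟨e, he⟩ := IsPGroup.iff_card.1 hq
  have hle : Nat.card (N ⧸ P.subgroupOf N) ≤ 23 := by
    rw [← hP]
    let f : N ⧸ P.subgroupOf N → P := fun q =>
      ⟨(q.out : X) * α * (q.out : X)⁻¹, ((mem_normalizer_iff.1 q.out.2) α).1 (mem_zpowers α)⟩
    refine Nat.card_le_card_of_injective f fun q r hqr => ?_
    have h1 : ((q.out : X)) * α * (q.out : X)⁻¹ = (r.out : X) * α * (r.out : X)⁻¹ :=
      congrArg Subtype.val hqr
    rw [← q.out_eq, ← r.out_eq]
    refine QuotientGroup.eq.2 ?_
    rw [mem_subgroupOf]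
    refine hC _ ?_
    show ((q.out : X))⁻¹ * (r.out : X) * α = α * ((q.out : X)⁻¹ * (r.out : X))
    calc ((q.out : X))⁻¹ * (r.out : X) * α
        = (q.out : X)⁻¹ * ((r.out : X) * α * (r.out : X)⁻¹) * (r.out : X) := by group
      _ = α * ((q.out : X)⁻¹ * (r.out : X)) := by rw [← h1]; group
  have hcard : Nat.card N = 11 ^ e * 23 := by
    rw [card_eq_card_quotient_mul_card_subgroup (P.subgroupOf N), he,
      Nat.card_congr (subgroupOfEquivOfLe hPN).toEquiv, hP]
  have hidx := card_mul_index N
  rw [hcard, hX] at hidx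
  rw [he] at hle
  have he1 : e ≤ 1 := by
    by_contra hh
    have : 11 ^ 2 ≤ 11 ^ e := Nat.pow_le_pow_right (by norm_num) (by omega)
    omega
  have hm : N.index % 23 = 1 := hcount
  rcases hd with rfl | rfl
  · rfl
  · exfalso
    interval_cases e <;> omega

/-- The normaliser of the subgroup of order 2048 is 2^11:M24. -/
theorem normalizer_Vs : Nz h = Hs h := by
  have := finite h
  have hx : gx ∈ Nz h := Ks_le_normalizer h gx_mem_Ks
  have hy : gy ∈ Nz h := Ks_le_normalizer h gy_mem_Ks
  set α : (act h).range := ⟨act h ⟨gx * gy, mul_mem hx hy⟩, ⟨_, rfl⟩⟩ with hα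
  have hαv : ∀ v < 2 ^ 11, ap α.1 v = app aA v := by
    intro v hv
    have h1 := act_apply h ⟨gx * gy, mul_mem hx hy⟩ ⟨v, hv⟩
    rw [ap_val] at h1
    refine elV_inj h.1 (ap_lt _ _) (app_lt aA_small _) (h1.symm.trans ?_)
    rw [← (a_comp v hv).1, ← conj_gx h.1 (app_aY_lt v), ← conj_gy h.1 hv]
    group
  obtain ⟨d, hd, hR⟩ := exists_factor h
  have ho : orderOf α = 23 := by
    have := Fact.mk (show Nat.Prime 23 by norm_num)
    refine orderOf_eq_prime (Subtype.ext (eq_of_ap fun v hv => ?_)) fun h1 => ?_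
    · have hk : ∀ k, ap ((α.1) ^ k) v = iterA aA k v := by
        intro k
        induction k with
        | zero => rw [pow_zero]; exact ap_one hv
        | succ k ih =>
          rw [pow_succ', ap_mul, ih, hαv _ (iterA_lt k hv), iterA_eq, iterA_eq,
            Function.iterate_succ_apply']
      rw [SubgroupClass.coe_pow, hk, a_order v hv]
      exact (ap_one hv).symm
    · have h2 := hαv 1 (by norm_num)
      rw [h1] at h2
      exact absurd ((ap_one (by norm_num)).symm.trans h2) (by decide +kernel)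
  have hd1 := mod_twentythree hd hR ho
    (fun g hg => Subtype.ext (by
      rw [SubgroupClass.coe_pow]
      exact ap_commute_pow (congrArg Subtype.val hg.eq) hαv))
    (fun g hg => no_ap_inversion hαv (congrArg Subtype.val hg))
  refine (Subgroup.eq_of_le_of_card_ge (Hs_le_normalizer h) ?_).symm
  rw [card_Nz h, hR, hd1, card_Hs h, one_mul, mul_comm]

end Cfsg.Agent.J4Out
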