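import Cfsg.Agent.J4Out.CheckDef
import Cfsg.Agent.J4Out.CheckComm
import Cfsg.Agent.J4Out.CheckConj
import Cfsg.Agent.J4Out.CheckOrb

/-!
# An elementary abelian subgroup of order 2048 and its centraliser
-/

set_option autoImplicit false

namespace Cfsg.Agent.J4Out

open Cfsg.Agent.J4Rep

local notation "J" => Cfsg.Spor.J4

theorem reps_el : ∀ k < 22, Reps (el k) (mt k) := by
  intro k
  induction k using Nat.strong_induction_on with
  | _ k ih =>
    intro hk
    by_cases h4 : k < 4
    · rw [el_of_lt k h4]; exact reps_base k h4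
    · obtain ⟨he, hlt⟩ := el_short (by omega) hk
      have hd := (allB_iff _ _).1 def_ok (k - 4) (by omega)
      rw [show 4 + (k - 4) = k by omega] at hd
      exact reps_of_eqB (fun j hj => ih j (hlt j hj) ((hlt j hj).trans hk)) he hd

theorem rel (hs : IsSimpleGroup J) {w z : List Nat} (hw : ∀ j ∈ w, j < 22) (hz : ∀ j ∈ z, j < 22)
    (h : eqB mt w z = true) : ev el w = ev el z :=
  ev_eq_of_eqB hs (fun j hj => reps_el j (hw j hj)) (fun j hj => reps_el j (hz j hj)) h

theorem el0 : el 0 = gx := el_of_lt 0 (by norm_num)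

theorem el1 : el 1 = gy := el_of_lt 1 (by norm_num)

theorem el2 : el 2 = gy⁻¹ := el_of_lt 2 (by norm_num)

theorem el3 : el 3 = gt := el_of_lt 3 (by norm_num)

theorem gx_mul_self (hs : IsSimpleGroup J) : gx * gx = 1 := by
  have hm := misc_ok
  simp only [miscB, Bool.and_eq_true] at hm
  have := rel hs (w := [0, 0]) (z := []) (by simp) (by simp) hm.1.1.1.2
  simpa [ev, el0] using this

theorem gx_inv (hs : IsSimpleGroup J) : gx⁻¹ = gx := inv_eq_of_mul_eq_one_right (gx_mul_self hs)

theorem gy_cube (hs : IsSimpleGroup J) : gy * (gy * gy) = 1 := by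
  have hm := misc_ok
  simp only [miscB, Bool.and_eq_true] at hm
  have := rel hs (w := [1, 1, 1]) (z := []) (by simp) (by simp) hm.1.2
  simpa [ev, el1] using this

/-- The generators of the normal subgroup. -/
def v (i : Nat) : J := el (6 + i)

theorem v_sq (hs : IsSimpleGroup J) {i : Nat} (hi : i < 11) : v i * v i = 1 := by
  have := rel hs (w := [6 + i, 6 + i]) (z := []) (by simp; omega) (by simp)
    ((allB_iff _ _).1 sq_ok i hi)
  simpa [ev, v] using this

theorem v_comm (hs : IsSimpleGroup J) {i j : Nat} (hi : i < 11) (hj : j < 11) :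
    v i * v j = v j * v i := by
  wlog h : j < i generalizing i j
  · rcases Nat.eq_or_lt_of_le (Nat.le_of_not_lt h) with h' | h'
    · rw [h']
    · exact (this hj hi h').symm
  have h1 := (allB_iff _ _).1 comm_ok i hi
  simp only [Nat.zero_add] at h1
  have := rel hs (w := [6 + i, 6 + j]) (z := [6 + j, 6 + i]) (by simp; omega) (by simp; omega)
    ((allB_iff _ _).1 h1 j h)
  simpa [ev, v] using this

/-- The product of generators of the normal subgroup picked by a list. -/
def vl (l : List Nat) : J := (l.map v).prod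

/-- An element of the normal subgroup. -/
noncomputable def elV (m : Nat) : J := vl (bitsOf m 11)

theorem elV_eq (m : Nat) : elV m = ev el (bv m) := by
  simp only [elV, vl, ev, bv, List.map_map]
  rfl

theorem bv_lt (m : Nat) : ∀ j ∈ bv m, j < 22 := by
  intro j hj
  obtain ⟨i, hi, rfl⟩ := List.mem_map.1 hj
  have := ((mem_bitsOf m 11 i).1 hi).1
  omega

theorem fn_elV (m : Nat) {u : Nat} (hu : u < 2 ^ 112) : fn (elV m) u = run mt (bv m) u := by
  rw [elV_eq, fn_ev (fun j hj => reps_el j (bv_lt m j hj)) hu]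

theorem v_vl_comm (hs : IsSimpleGroup J) {i : Nat} (hi : i < 11) : ∀ l : List Nat,
    (∀ j ∈ l, j < 11) → v i * vl l = vl l * v i := by
  intro l
  induction l with
  | nil => intro; simp [vl]
  | cons j l ih =>
    intro h
    have h1 := v_comm hs hi (h j List.mem_cons_self)
    have h2 := ih fun x hx => h x (List.mem_cons_of_mem _ hx)
    simp only [vl, List.map_cons, List.prod_cons] at h2 ⊢
    rw [← mul_assoc, h1, mul_assoc, h2, mul_assoc]

theorem vl_bits_mul (hs : IsSimpleGroup J) (a b : Nat) : ∀ n ≤ 11,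
    vl (bitsOf a n) * vl (bitsOf b n) = vl (bitsOf (a ^^^ b) n) := by
  intro n
  induction n with
  | zero => intro; simp [vl, bitsOf]
  | succ n ih =>
    intro hn
    have ih' := ih (by omega)
    have hlt : ∀ c j, j ∈ bitsOf c n → j < 11 := fun c j hj => by
      have := ((mem_bitsOf c n j).1 hj).1
      omega
    rw [bitsOf_succ, bitsOf_succ, bitsOf_succ, Nat.testBit_xor]
    have hc : ∀ l : List Nat, vl (n :: l) = v n * vl l := fun l => by simp [vl]
    cases ha : a.testBit n <;> cases hb : b.testBit n <;>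
      simp only [Bool.false_bne, Bool.true_bne, Bool.not_false, Bool.not_true, if_true, if_false,
        Bool.false_eq_true, hc]
    · exact ih'
    · rw [← mul_assoc, ← v_vl_comm hs (by omega) _ (hlt a), mul_assoc, ih']
    · rw [mul_assoc, ih']
    · calc v n * vl (bitsOf a n) * (v n * vl (bitsOf b n))
          = v n * (vl (bitsOf a n) * v n) * vl (bitsOf b n) := by simp only [mul_assoc]
        _ = v n * v n * (vl (bitsOf a n) * vl (bitsOf b n)) := by
              rw [← v_vl_comm hs (by omega) _ (hlt a)]; simp only [mul_assoc]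
        _ = _ := by rw [v_sq hs (by omega), one_mul, ih']

theorem elV_mul (hs : IsSimpleGroup J) (a b : Nat) : elV a * elV b = elV (a ^^^ b) :=
  vl_bits_mul hs a b 11 le_rfl

theorem elV_zero : elV 0 = 1 := by
  rw [elV, show bitsOf 0 11 = [] by decide +kernel]
  rfl

theorem elV_inv (hs : IsSimpleGroup J) (a : Nat) : (elV a)⁻¹ = elV a := by
  refine inv_eq_of_mul_eq_one_right ?_
  rw [elV_mul hs, Nat.xor_self, elV_zero]

theorem elV_single {i : Nat} (hi : i < 11) : elV (2 ^ i) = v i := by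
  have : bitsOf (2 ^ i) 11 = [i] := by
    interval_cases i <;> decide +kernel
  rw [elV, this]
  simp [vl]

/-- A conjugation given on the generators. -/
theorem conj_elV (hs : IsSimpleGroup J) (g : J) (A : List Nat)
    (hA : ∀ i < 11, g * v i * g⁻¹ = elV (A.getD i 0) ∧ app A (2 ^ i) = A.getD i 0) {m : Nat}
    (hm : m < 2 ^ 11) : g * elV m * g⁻¹ = elV (app A m) := by
  rw [map_eq_xs (app_xor A) hm]
  have key : ∀ l : List Nat, (∀ i ∈ l, i < 11) →
      g * vl l * g⁻¹ = elV (xs (fun i => app A (2 ^ i)) l) := by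
    intro l
    induction l with
    | nil => intro; simp [vl, xs_nil, elV_zero]
    | cons i l ih =>
      intro h
      obtain ⟨h1, h2⟩ := hA i (h i List.mem_cons_self)
      rw [xs_cons, ← elV_mul hs, h2, ← h1, ← ih fun x hx => h x (List.mem_cons_of_mem _ hx)]
      simp [vl, mul_assoc]
  exact key _ fun i hi => ((mem_bitsOf m 11 i).1 hi).1

theorem app_aX : ∀ i < 11, app aX (2 ^ i) = aX.getD i 0 := by decide +kernel

theorem app_aY : ∀ i < 11, app aY (2 ^ i) = aY.getD i 0 := by decide +kernel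

theorem app_aX_lt (m : Nat) : app aX m < 2 ^ 11 := app_lt (by decide +kernel) m

theorem app_aY_lt (m : Nat) : app aY m < 2 ^ 11 := app_lt (by decide +kernel) m

theorem conj_gx (hs : IsSimpleGroup J) {m : Nat} (hm : m < 2 ^ 11) :
    gx * elV m * gx⁻¹ = elV (app aX m) := by
  refine conj_elV hs gx aX (fun i hi => ⟨?_, app_aX i hi⟩) hm
  have h := rel hs (w := [0, 6 + i, 0]) (z := bv (aX.getD i 0)) (by simp; omega) (bv_lt _)
    ((allB_iff _ _).1 conjX_ok i hi)
  rw [← elV_eq, ev_cons, ev_cons, ev_cons, ev_nil, el0, mul_one] at h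
  rw [gx_inv hs, ← h, mul_assoc]
  rfl

theorem conj_gy (hs : IsSimpleGroup J) {m : Nat} (hm : m < 2 ^ 11) :
    gy * elV m * gy⁻¹ = elV (app aY m) := by
  refine conj_elV hs gy aY (fun i hi => ⟨?_, app_aY i hi⟩) hm
  have h := rel hs (w := [1, 6 + i, 2]) (z := bv (aY.getD i 0)) (by simp; omega) (bv_lt _)
    ((allB_iff _ _).1 conjY_ok i hi)
  rw [← elV_eq, ev_cons, ev_cons, ev_cons, ev_nil, el1, el2, mul_one] at h
  rw [← h, mul_assoc]
  rfl

theorem elV_ne_one {m : Nat} (h0 : m ≠ 0) (hm : m < 2 ^ 11) : elV m ≠ 1 := by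
  intro h
  have hf := (allB_iff _ _).1 free_ok (m - 1) (by omega)
  rw [show 1 + (m - 1) = m by omega, orbit, frun_eq, ← fn_elV m (by norm_num), h,
    fn_one (by norm_num)] at hf
  simp at hf

theorem elV_inj (hs : IsSimpleGroup J) {a b : Nat} (ha : a < 2 ^ 11) (hb : b < 2 ^ 11)
    (h : elV a = elV b) : a = b := by
  by_contra hne
  refine elV_ne_one (m := a ^^^ b) (fun h0 => hne (Nat.xor_eq_zero_iff.1 h0))
    (Nat.xor_lt_two_pow ha hb) ?_
  rw [← elV_mul hs, h, elV_mul hs, Nat.xor_self, elV_zero]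

/-- The normal subgroup. -/
noncomputable def Vs (hs : IsSimpleGroup J) : Subgroup J where
  carrier := {g | ∃ m, m < 2 ^ 11 ∧ elV m = g}
  one_mem' := ⟨0, by norm_num, elV_zero⟩
  mul_mem' := by
    rintro _ _ ⟨a, ha, rfl⟩ ⟨b, hb, rfl⟩
    exact ⟨a ^^^ b, Nat.xor_lt_two_pow ha hb, (elV_mul hs a b).symm⟩
  inv_mem' := by
    rintro _ ⟨a, ha, rfl⟩
    exact ⟨a, ha, (elV_inv hs a).symm⟩

theorem mem_Vs {hs : IsSimpleGroup J} {g : J} : g ∈ Vs hs ↔ ∃ m, m < 2 ^ 11 ∧ elV m = g :=
  Iff.rfl

theorem elV_mem (hs : IsSimpleGroup J) {m : Nat} (hm : m < 2 ^ 11) : elV m ∈ Vs hs := ⟨m, hm, rfl⟩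

theorem card_Vs (hs : IsSimpleGroup J) : Nat.card (Vs hs) = 2 ^ 11 := by
  refine ((Nat.card_congr (Equiv.ofBijective
    (fun m : Fin (2 ^ 11) => (⟨elV m.1, elV_mem hs m.2⟩ : Vs hs)) ⟨?_, ?_⟩)).symm).trans
      (Nat.card_fin _)
  · intro a b h
    exact Fin.ext (elV_inj hs a.2 b.2 (congrArg Subtype.val h))
  · rintro ⟨_, m, hm, rfl⟩
    exact ⟨⟨m, hm⟩, rfl⟩

theorem run_bv_sq (hs : IsSimpleGroup J) (a b : Nat) {u : Nat} (hu : u < 2 ^ 112) :
    run mt (bv a) (run mt (bv b) u) = run mt (bv (a ^^^ b)) u := by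
  rw [← fn_elV b hu, ← fn_elV a (fn_lt _ _), ← fn_mul, elV_mul hs, fn_elV _ hu]

/-- Every vector is a sum over the orbit of the first unit vector. -/
theorem exists_orbit_sum {u : Nat} (hu : u < 2 ^ 112) :
    ∃ l : List Nat, (∀ m ∈ l, m < 2 ^ 11) ∧ u = xs (fun m => run mt (bv m) 1) l := by
  have happ : ∀ (f : Nat → Nat) (l₁ l₂ : List Nat), xs f (l₁ ++ l₂) = xs f l₁ ^^^ xs f l₂ := by
    intro f l₁ l₂
    induction l₁ with
    | nil => simp [xs_nil]
    | cons a l ih => rw [List.cons_append, xs_cons, xs_cons, ih, Nat.xor_assoc]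
  refine ⟨(bitsOf u 112).flatMap fun j => (bitsOf (unitComb.getD j 0) 112).map
    fun k => orbMask.getD k 0, ?_, ?_⟩
  · intro m hm
    obtain ⟨j, -, hj⟩ := List.mem_flatMap.1 hm
    obtain ⟨k, hk, rfl⟩ := List.mem_map.1 hj
    have h := (allB_iff _ _).1 orb_ok k ((mem_bitsOf _ _ _).1 hk).1
    rw [Bool.and_eq_true] at h
    exact Nat.le_of_ble_eq_true h.2
  · have hmap : ∀ l : List Nat, (∀ k ∈ l, k < 112) →
        xs (fun m => run mt (bv m) 1) (l.map fun k => orbMask.getD k 0) =
          xs (fun k => orbVec.getD k 0) l := by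
      intro l
      induction l with
      | nil => intro; rfl
      | cons k l ih =>
        intro h
        have h1 := (allB_iff _ _).1 orb_ok k (h k List.mem_cons_self)
        rw [Bool.and_eq_true] at h1
        have h2 := Nat.eq_of_beq_eq_true h1.1
        rw [orbit, frun_eq] at h2
        rw [List.map_cons, xs_cons, xs_cons, h2, ih fun x hx => h x (List.mem_cons_of_mem _ hx)]
    have hflat : ∀ l : List Nat, (∀ j ∈ l, j < 112) → xs (fun j => 2 ^ j) l =
        xs (fun m => run mt (bv m) 1) (l.flatMap fun j =>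
          (bitsOf (unitComb.getD j 0) 112).map fun k => orbMask.getD k 0) := by
      intro l
      induction l with
      | nil => intro; rfl
      | cons j l ih =>
        intro h
        rw [List.flatMap_cons, happ, xs_cons, ← ih fun x hx => h x (List.mem_cons_of_mem _ hx),
          hmap _ fun k hk => ((mem_bitsOf _ _ _).1 hk).1]
        congr 1
        exact (Nat.eq_of_beq_eq_true ((allB_iff _ _).1 span_ok j (h j List.mem_cons_self))).symm
    rw [← hflat _ fun j hj => ((mem_bitsOf _ _ _).1 hj).1, xs_bitsOf_two_pow,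
      Nat.mod_eq_of_lt hu]

/-- An element centralising the normal subgroup is an involution or trivial. -/
theorem sq_eq_one_of_comm (hs : IsSimpleGroup J) {g : J}
    (hg : ∀ m < 2 ^ 11, g * elV m = elV m * g) : g * g = 1 := by
  have h1 : (1 : Nat) < 2 ^ 112 := by norm_num
  have hcg : ∀ m < 2 ^ 11, ∀ u < 2 ^ 112, fn g (run mt (bv m) u) = run mt (bv m) (fn g u) := by
    intro m hm u hu
    rw [← fn_elV m hu, ← fn_mul, hg m hm, fn_mul, fn_elV m (fn_lt _ _)]
  obtain ⟨l, hl, hq⟩ := exists_orbit_sum (fn_lt g 1)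
  have key : fn g (fn g 1) = if l.length % 2 = 1 then 1 else 0 := by
    conv_lhs => rw [hq, map_xs (fn_add g)]
    rw [xs_congr fun m hm => hcg m (hl m hm) 1 h1, hq,
      xs_sq (fun m u => run mt (bv m) u) (fun m => run_xor _ _) 1 l fun a _ b _ => by
        rw [run_bv_sq hs a b h1, run_bv_sq hs b a h1, Nat.xor_comm],
      ← xs_const 1 l]
    refine xs_congr fun m _ => ?_
    rw [run_bv_sq hs m m h1, Nat.xor_self, ← fn_elV 0 h1, elV_zero, fn_one h1]
  have hne : fn g (fn g 1) ≠ 0 := by
    intro h0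
    have h2 : fn (g * g) 0 = fn (g * g) 1 := by
      rw [map_zero_of_add (fn_add (g * g)), fn_mul, h0]
    have h3 := congrArg (fn (g * g)⁻¹) h2
    rw [← fn_mul, ← fn_mul, inv_mul_cancel, fn_one (by norm_num), fn_one h1] at h3
    exact absurd h3 (by norm_num)
  have hg1 : fn g (fn g 1) = 1 := by
    rw [key] at hne ⊢
    split_ifs at hne ⊢ with hp
    · rfl
    · exact absurd rfl hne
  refine eq_of_fn hs fun u hu => ?_
  obtain ⟨l', hl', rfl⟩ := exists_orbit_sum hu
  rw [fn_mul, map_xs (fn_add g), map_xs (fn_add g),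
    fn_one (xs_lt fun m _ => (fn_elV m h1).symm ▸ fn_lt _ _)]
  refine xs_congr fun m hm => ?_
  rw [hcg m (hl' m hm) 1 h1, hcg m (hl' m hm) _ (fn_lt _ _), hg1]

/-- The centraliser of the normal subgroup has exponent two. -/
theorem centralizer_sq (hs : IsSimpleGroup J) {g : J}
    (hg : g ∈ Subgroup.centralizer (Vs hs : Set J)) : g * g = 1 :=
  sq_eq_one_of_comm hs fun _ hm => (hg _ (elV_mem hs hm)).symm

end Cfsg.Agent.J4Out
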