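import Cfsg.Agent.J4Out.Letters

/-! The checks on short relations between the letters, as Boolean definitions. -/

set_option autoImplicit false

namespace Cfsg.Agent.J4Out

open Cfsg.Agent.J4Rep

/-- The word of an element of the normal subgroup. -/
noncomputable def bv (m : Nat) : List Nat := (bitsOf m 11).map fun i => 6 + i

/-- Inverses and orders of the letters. -/
noncomputable def miscB : Bool :=
  eqB mt [4, 5] [] && eqB mt [0, 0] [] && eqB mt [1, 2] [] && eqB mt [1, 1, 1] [] &&
    eqB mt [5, 4] []

/-- The letters of the normal subgroup are involutions. -/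
noncomputable def sqB : Bool := allB (fun i => eqB mt [6 + i, 6 + i] []) 11

/-- The letters of the normal subgroup commute. -/
noncomputable def commB (lo n : Nat) : Bool :=
  allB (fun i => allB (fun j => eqB mt [6 + (lo + i), 6 + j] [6 + j, 6 + (lo + i)]) (lo + i)) n

/-- Conjugation by `x`. -/
noncomputable def conjXB : Bool :=
  allB (fun i => eqB mt [0, 6 + i, 0] (bv (aX.getD i 0))) 11

/-- Conjugation by `y`. -/
noncomputable def conjYB : Bool :=
  allB (fun i => eqB mt [1, 6 + i, 2] (bv (aY.getD i 0))) 11

/-- The action of a word of the normal subgroup on the first unit vector. -/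
noncomputable def orbit (m : Nat) : Nat := frun mt (bv m) 1

/-- The orbit table. -/
noncomputable def orbB : Bool :=
  allB (fun k => Nat.beq (orbit (orbMask.getD k 0)) (orbVec.getD k 0) &&
    Nat.blt (orbMask.getD k 0) 2048) 112

/-- The orbit spans. -/
noncomputable def spanB : Bool :=
  allB (fun j => Nat.beq (xs (fun k => orbVec.getD k 0) (bitsOf (unitComb.getD j 0) 112))
    (Nat.pow 2 j)) 112

/-- The action on the first unit vector is free. -/
noncomputable def freeB (lo n : Nat) : Bool :=
  allB (fun i => !(Nat.beq (orbit (lo + i)) 1)) n

end Cfsg.Agent.J4Out
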