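import Cfsg.Prelude.Def_KGroupFacts
import Cfsg.Agent.J4Out.Conj
import Cfsg.Agent.S2064

/-!
# An automorphism of the presented J4 adjusted on 2^11:M24
-/

set_option autoImplicit false
set_option maxRecDepth 100000

namespace Cfsg.Agent.J4Out

open Cfsg.Agent.J4Rep Subgroup

local notation "J" => Cfsg.Spor.J4

theorem pick_x : ∀ a < 2 ^ 11, app aX a = a →
    ∃ n < 2 ^ 11, app aY n = n ∧
      (a ^^^ n ^^^ app aX n = 0 ∨ a ^^^ n ^^^ app aX n = 560) := by
  decide +kernel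


variable (h : Cfsg.IsJ4 J)
include h

theorem fix_Vs (α : MulAut J) : ∃ g : J, ∀ a ∈ Vs h.1, (MulAut.conj g * α : MulAut J) a ∈ Vs h.1 := by
  obtain ⟨g, hg⟩ := exists_conj h (E := (Vs h.1).map α.toMonoidHom)
    ((card_map_of_injective α.injective).trans (card_Vs h.1)) (by
      rintro _ ⟨a, ha, rfl⟩
      rw [← map_mul, Vs_sq h ha, map_one])
  refine ⟨g, fun a ha => ?_⟩
  rw [← hg]
  exact ⟨α a, ⟨a, ha, rfl⟩, rfl⟩

theorem map_Hs {β : MulAut J} (hβ : ∀ a ∈ Vs h.1, β a ∈ Vs h.1) {a : J} (ha : a ∈ Hs h) :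
    β a ∈ Hs h := by
  have := finite h
  have heq : (Vs h.1).map β.toMonoidHom = Vs h.1 :=
    Subgroup.eq_of_le_of_card_ge (by rintro _ ⟨b, hb, rfl⟩; exact hβ b hb)
      (card_map_of_injective β.injective).ge
  have h1 := map_equiv_normalizer_eq (Vs h.1) β
  rw [heq] at h1
  rw [← normalizer_Vs h] at ha ⊢
  show β a ∈ normalizer (Vs h.1 : Set J)
  rw [← h1]
  exact ⟨a, ha, rfl⟩

theorem eq_of_mul_eq {a a' k k' : J} (ha : a ∈ Vs h.1) (ha' : a' ∈ Vs h.1) (hk : k ∈ Ks)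
    (hk' : k' ∈ Ks) (he : a * k = a' * k') : k = k' := by
  have h1 : a'⁻¹ * a ∈ Vs h.1 ⊓ Ks := by
    refine Subgroup.mem_inf.2 ⟨mul_mem (inv_mem ha') ha, ?_⟩
    have : a'⁻¹ * a = k' * k⁻¹ := by
      rw [eq_mul_inv_iff_mul_eq, mul_assoc, he, inv_mul_cancel_left]
    rw [this]
    exact mul_mem hk' (inv_mem hk)
  rw [Vs_inf_Ks h, mem_bot] at h1
  have h2 : a' = a := inv_inj.1 (mul_right_cancel (b := a) (by rw [h1, inv_mul_cancel]))
  rw [h2] at he
  exact mul_left_cancel he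

theorem Ks_conj_mem {k a : J} (hk : k ∈ Ks) (ha : a ∈ Vs h.1) : k * a * k⁻¹ ∈ Vs h.1 :=
  ((mem_normalizer_iff.1 (Ks_le_normalizer h hk)) a).1 ha

/-- Up to an inner automorphism the induced map on `Ks` is the identity modulo `Vs`. -/
theorem fix_mod {β : MulAut J} (hβ : ∀ a ∈ Vs h.1, β a ∈ Vs h.1) :
    ∃ k ∈ Ks, ∀ q ∈ Ks, ∃ a ∈ Vs h.1, (MulAut.conj k * β : MulAut J) q = a * q := by
  have := finite h
  have hex : ∀ q : Ks, ∃ k : Ks, ∃ a ∈ Vs h.1, β q = a * k := fun q => by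
    obtain ⟨a, ha, k, hk, he⟩ := (mem_Hs h).1 (map_Hs h hβ (mem_sup_right (S := Vs h.1) q.2))
    exact ⟨⟨k, hk⟩, a, ha, he.symm⟩
  choose f a ha hf using hex
  have hmul : ∀ p q : Ks, f (p * q) = f p * f q := fun p q => by
    apply Subtype.ext
    refine eq_of_mul_eq h (ha (p * q)) (mul_mem (ha p) (Ks_conj_mem h (f p).2 (ha q))) (f (p * q)).2
      (mul_mem (f p).2 (f q).2) ?_
    rw [← hf, Subgroup.coe_mul, map_mul, hf, hf]
    simp only [Subgroup.coe_mul]
    group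
  let F : Ks →* Ks := MonoidHom.mk' f hmul
  have hinj : Function.Injective F := by
    rw [← MonoidHom.ker_eq_bot_iff, eq_bot_iff]
    intro q hq
    have h1 : f q = 1 := hq
    have h2 : β q ∈ Vs h.1 := by
      rw [hf q, h1, Subgroup.coe_one, mul_one]
      exact ha q
    have heq : (Vs h.1).map β.toMonoidHom = Vs h.1 :=
      Subgroup.eq_of_le_of_card_ge (by rintro _ ⟨b, hb, rfl⟩; exact hβ b hb)
        (card_map_of_injective β.injective).ge
    rw [← heq] at h2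
    obtain ⟨b, hb, hbe⟩ := h2
    have h3 : (q : J) ∈ Vs h.1 ⊓ Ks := ⟨β.injective hbe ▸ hb, q.2⟩
    rw [Vs_inf_Ks h, mem_bot] at h3
    rw [mem_bot]
    exact Subtype.ext h3
  let φ : MulAut Ks := MulEquiv.ofBijective F (Finite.injective_iff_bijective.1 hinj)
  obtain ⟨e⟩ := exists_iso
  have hinn : Cfsg.Inn ↥Cfsg.M24 = ⊤ := Subgroup.index_eq_one.1 S2064.result
  obtain ⟨m, hm⟩ : (e.symm.trans (φ.trans e) : MulAut Cfsg.M24) ∈ Cfsg.Inn ↥Cfsg.M24 := by
    rw [hinn]; exact mem_top _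
  refine ⟨((e.symm m)⁻¹ : Ks), ((e.symm m)⁻¹ : Ks).2, fun q hq => ?_⟩
  have hφ : φ ⟨q, hq⟩ = e.symm m * ⟨q, hq⟩ * (e.symm m)⁻¹ := by
    have h1 := DFunLike.congr_fun hm (e ⟨q, hq⟩)
    simp only [MulEquiv.trans_apply, MulEquiv.symm_apply_apply, MulAut.conj_apply] at h1
    have h2 := congrArg e.symm h1
    simp only [map_mul, map_inv, MulEquiv.symm_apply_apply] at h2
    exact h2.symm
  have hq' : (f ⟨q, hq⟩ : J) =
      (e.symm m : Ks) * q * ((e.symm m : Ks) : J)⁻¹ := congrArg Subtype.val hφ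
  refine ⟨((e.symm m : Ks) : J)⁻¹ * a ⟨q, hq⟩ * ((e.symm m : Ks) : J), ?_, ?_⟩
  · have := Ks_conj_mem h (inv_mem (e.symm m).2) (ha ⟨q, hq⟩)
    simpa using this
  · show ((e.symm m)⁻¹ : Ks) * β q * (((e.symm m)⁻¹ : Ks) : J)⁻¹ = _
    rw [show β q = a ⟨q, hq⟩ * f ⟨q, hq⟩ from hf ⟨q, hq⟩, hq', Subgroup.coe_inv]
    group


theorem elV_conj_gx {m : Nat} (hm : m < 2 ^ 11) : gx * elV m = elV (app aX m) * gx := by
  rw [← conj_gx h.1 hm, inv_mul_cancel_right]

theorem elV_conj_gy {m : Nat} (hm : m < 2 ^ 11) : gy * elV m = elV (app aY m) * gy := by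
  rw [← conj_gy h.1 hm, inv_mul_cancel_right]

/-- After a translation, `y` is fixed and `x` moves by one of two elements. -/
theorem fix_xy {β : MulAut J} (hβ : ∀ a ∈ Vs h.1, β a ∈ Vs h.1)
    (hq : ∀ q ∈ Ks, ∃ a ∈ Vs h.1, β q = a * q) :
    ∃ g : J, (∀ a ∈ Vs h.1, (MulAut.conj g * β : MulAut J) a ∈ Vs h.1) ∧
      (MulAut.conj g * β : MulAut J) gy = gy ∧
      ∃ c, (c = 0 ∨ c = 560) ∧ (MulAut.conj g * β : MulAut J) gx = elV c * gx := by
  obtain ⟨_, ⟨a, ha, rfl⟩, hx⟩ := hq gx gx_mem_Ks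
  obtain ⟨_, ⟨b, hb, rfl⟩, hy⟩ := hq gy gy_mem_Ks
  have hYb := app_aY_lt b
  have hb3 : b ^^^ app aY b ^^^ app aY (app aY b) = 0 := by
    have h1 : β gy * (β gy * β gy) = 1 := by rw [← map_mul, ← map_mul, gy_cube h.1, map_one]
    rw [hy] at h1
    have h2 : elV b * gy * (elV b * gy * (elV b * gy)) =
        elV (b ^^^ app aY (b ^^^ app aY b)) * (gy * (gy * gy)) := by
      calc elV b * gy * (elV b * gy * (elV b * gy))
          = elV b * (gy * (elV b * (gy * elV b) * gy)) := by simp only [mul_assoc]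
        _ = elV b * (gy * (elV b * elV (app aY b)) * gy * gy) := by
              rw [elV_conj_gy h hb]; simp only [mul_assoc]
        _ = _ := by
              rw [elV_mul h.1, elV_conj_gy h (Nat.xor_lt_two_pow hb hYb), ← elV_mul h.1 b]
              simp only [mul_assoc]
    rw [h2, gy_cube h.1, mul_one, ← elV_zero] at h1
    have h3 := elV_inj h.1 (Nat.xor_lt_two_pow hb (app_aY_lt _)) (by norm_num) h1
    rwa [app_xor, ← Nat.xor_assoc] at h3
  -- first translate by the image of `b`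
  have hn : app aY b < 2 ^ 11 := hYb
  have hy1 : elV (app aY b) * β gy * (elV (app aY b))⁻¹ = gy := by
    rw [hy, elV_inv h.1, mul_assoc, mul_assoc, elV_conj_gy h hn, ← mul_assoc, ← mul_assoc,
      elV_mul h.1, elV_mul h.1, Nat.xor_comm (app aY b) b, hb3, elV_zero, one_mul]
  have hx1 : elV (app aY b) * β gx * (elV (app aY b))⁻¹ =
      elV (app aY b ^^^ a ^^^ app aX (app aY b)) * gx := by
    rw [hx, elV_inv h.1, mul_assoc, mul_assoc, elV_conj_gx h hn, ← mul_assoc, ← mul_assoc,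
      elV_mul h.1, elV_mul h.1]
  set a' := app aY b ^^^ a ^^^ app aX (app aY b) with ha'def
  have ha' : a' < 2 ^ 11 := Nat.xor_lt_two_pow (Nat.xor_lt_two_pow hn ha) (app_aX_lt _)
  have hfix : app aX a' = a' := by
    have h1 : (elV a' * gx) * (elV a' * gx) = 1 := by
      rw [← hx1]
      calc elV (app aY b) * β gx * (elV (app aY b))⁻¹ *
            (elV (app aY b) * β gx * (elV (app aY b))⁻¹)
          = elV (app aY b) * (β gx * β gx) * (elV (app aY b))⁻¹ := by group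
        _ = 1 := by rw [← map_mul, gx_mul_self h.1, map_one, mul_one, mul_inv_cancel]
    rw [mul_assoc, ← mul_assoc gx, elV_conj_gx h ha', mul_assoc, gx_mul_self h.1, mul_one,
      elV_mul h.1, ← elV_zero] at h1
    exact (Nat.xor_eq_zero_iff.1 (elV_inj h.1 (Nat.xor_lt_two_pow ha' (app_aX_lt _)) (by norm_num)
      h1)).symm
  obtain ⟨n, hn', hnY, hc⟩ := pick_x a' ha' hfix
  refine ⟨elV n * elV (app aY b), fun v hv => ?_, ?_, ?_⟩
  · have hm : elV n * elV (app aY b) ∈ Vs h.1 := mul_mem (elV_mem h.1 hn') (elV_mem h.1 hn)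
    exact mul_mem (mul_mem hm (hβ v hv)) (inv_mem hm)
  · show elV n * elV (app aY b) * β gy * (elV n * elV (app aY b))⁻¹ = gy
    calc elV n * elV (app aY b) * β gy * (elV n * elV (app aY b))⁻¹
        = elV n * (elV (app aY b) * β gy * (elV (app aY b))⁻¹) * (elV n)⁻¹ := by group
      _ = elV n * (gy * elV n) := by rw [hy1, elV_inv h.1, mul_assoc]
      _ = gy := by
            rw [elV_conj_gy h hn', hnY, ← mul_assoc, elV_mul h.1, Nat.xor_self, elV_zero, one_mul]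
  · refine ⟨a' ^^^ n ^^^ app aX n, hc, ?_⟩
    show elV n * elV (app aY b) * β gx * (elV n * elV (app aY b))⁻¹ = _
    calc elV n * elV (app aY b) * β gx * (elV n * elV (app aY b))⁻¹
        = elV n * (elV (app aY b) * β gx * (elV (app aY b))⁻¹) * (elV n)⁻¹ := by group
      _ = elV n * elV a' * (gx * elV n) := by rw [hx1, elV_inv h.1]; simp only [mul_assoc]
      _ = _ := by
            rw [elV_conj_gx h hn', ← mul_assoc, elV_mul h.1, elV_mul h.1, Nat.xor_comm n a']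

/-- The candidate images of the basis. -/
noncomputable def lamL (q : Nat) : List Nat :=
  let l1 := app aX q
  let l2 := app aY l1
  let l3 := app aX l2
  let l4 := app aY l2
  let l5 := app aY l3
  let l6 := app aX l4
  let l7 := app aX l5
  let l8 := app aY l5
  let l9 := app aY l7
  let l10 := app aX l8
  [q, l1, l2, l3, l4, l5, l6, l7, l8, l9, l10]

end Cfsg.Agent.J4Out
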