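import Cfsg.Prelude.Def_Sporadic
import Cfsg.Agent.J4Out.Normal
import Cfsg.Agent.J4M24.Main

/-!
# The subgroup 2^11:M24

It has index 173067389 and the normal subgroup of order 2048 is its own centraliser.
-/

set_option autoImplicit false
set_option maxRecDepth 100000

namespace Cfsg.Agent.J4Out

open Cfsg.Agent.J4Rep Subgroup

local notation "J" => Cfsg.Spor.J4

/-- The subgroup on `x` and `y`. -/
def Ks : Subgroup J := closure {gx, gy}

theorem exists_iso : Nonempty (Ks ≃* Cfsg.M24) := by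
  obtain ⟨e⟩ := J4M24.xy_iso_m24
  refine ⟨(MulEquiv.subgroupCongr ?_).trans e⟩
  rw [MonoidHom.map_closure, Set.image_pair]
  rfl

theorem card_Ks : Nat.card Ks = 244823040 := by
  obtain ⟨e⟩ := exists_iso
  rw [Nat.card_congr e.toEquiv, Compute.card_m24]

theorem simple_Ks : IsSimpleGroup Ks := by
  obtain ⟨e⟩ := exists_iso
  have : IsSimpleGroup Cfsg.M24 := Compute.isSimpleGroup_m24
  exact e.isSimpleGroup

theorem gx_mem_Ks : gx ∈ Ks := subset_closure (by simp)

theorem gy_mem_Ks : gy ∈ Ks := subset_closure (by simp)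

/-- A subgroup normalised by `Ks` and not containing it meets it trivially. -/
theorem inf_Ks_eq_bot {A : Subgroup J} (hn : Ks ≤ normalizer (A : Set J)) (hne : ¬ Ks ≤ A) :
    A ⊓ Ks = ⊥ := by
  have := simple_Ks
  have hN : ((A ⊓ Ks).subgroupOf Ks).Normal := by
    refine ⟨fun a ha k => ?_⟩
    rw [mem_subgroupOf, mem_inf] at ha ⊢
    exact ⟨((mem_normalizer_iff.1 (hn k.2)) a).1 ha.1, (k * a * k⁻¹).2⟩
  rcases hN.eq_bot_or_eq_top with h | h
  · exact (subgroupOf_eq_bot.1 h).eq_bot_of_le inf_le_right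
  · exact absurd ((subgroupOf_eq_top.1 h).trans inf_le_left) hne

variable (h : Cfsg.IsJ4 J)
include h

theorem finite : Finite J := Nat.finite_of_card_ne_zero (by rw [h.2]; norm_num)

theorem Ks_le_normalizer : Ks ≤ normalizer (Vs h.1 : Set J) := by
  have := finite h
  rw [Ks, closure_le]
  intro g hg
  rw [SetLike.mem_coe, mem_normalizer_iff]
  have hle : (Vs h.1).map (MulAut.conj g).toMonoidHom ≤ Vs h.1 := by
    rintro _ ⟨_, ⟨m, hm, rfl⟩, rfl⟩
    rcases hg with rfl | rfl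
    · exact ⟨_, app_aX_lt m, (conj_gx h.1 hm).symm⟩
    · exact ⟨_, app_aY_lt m, (conj_gy h.1 hm).symm⟩
  have heq := Subgroup.eq_of_le_of_card_ge hle
    (card_map_of_injective (MulAut.conj g).injective).ge
  intro a
  constructor
  · exact fun ha => hle ⟨a, ha, rfl⟩
  · intro ha
    rw [← heq] at ha
    obtain ⟨b, hb, hbe⟩ := ha
    exact (MulAut.conj g).injective hbe ▸ hb

theorem not_Ks_le {A : Subgroup J} (hA : ∀ a ∈ A, a * a = 1) : ¬ Ks ≤ A := by
  have := finite h
  have := Fact.mk Nat.prime_two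
  intro hle
  have hp : IsPGroup 2 Ks := fun a => ⟨1, Subtype.ext (by
    rw [pow_one, pow_two]; exact hA a (hle a.2))⟩
  obtain ⟨k, hk⟩ := IsPGroup.iff_card.1 hp
  rw [card_Ks] at hk
  have h3 : 3 ∣ 2 ^ k := hk ▸ (by norm_num)
  exact absurd ((Nat.prime_three).dvd_of_dvd_pow h3) (by norm_num)

theorem Vs_sq {a : J} (ha : a ∈ Vs h.1) : a * a = 1 := by
  obtain ⟨m, -, rfl⟩ := ha
  rw [elV_mul h.1, Nat.xor_self, elV_zero]

theorem Vs_inf_Ks : Vs h.1 ⊓ Ks = ⊥ :=
  inf_Ks_eq_bot (Ks_le_normalizer h) (not_Ks_le h fun _ ha => Vs_sq h ha)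

/-- The subgroup 2^11:M24. -/
noncomputable def Hs : Subgroup J := Vs h.1 ⊔ Ks

theorem mem_Hs {g : J} : g ∈ Hs h ↔ ∃ a ∈ Vs h.1, ∃ k ∈ Ks, a * k = g := by
  rw [Hs, ← SetLike.mem_coe, coe_mul_of_right_le_normalizer_left _ _ (Ks_le_normalizer h)]
  exact Set.mem_mul

theorem Hs_le_normalizer : Hs h ≤ normalizer (Vs h.1 : Set J) :=
  sup_le le_normalizer (Ks_le_normalizer h)

theorem card_Hs : Nat.card (Hs h) = 2 ^ 11 * 244823040 := by
  have := finite h
  rw [← card_Vs h.1, ← card_Ks, ← Nat.card_prod]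
  refine (Nat.card_congr (Equiv.ofBijective
    (fun p : Vs h.1 × Ks => (⟨p.1.1 * p.2.1, (mem_Hs h).2 ⟨_, p.1.2, _, p.2.2, rfl⟩⟩ : Hs h))
    ⟨?_, ?_⟩)).symm
  · intro p q hpq
    exact Subgroup.mul_injective_of_disjoint (disjoint_iff.2 (Vs_inf_Ks h))
      (congrArg Subtype.val hpq)
  · rintro ⟨g, hg⟩
    obtain ⟨a, ha, k, hk, rfl⟩ := (mem_Hs h).1 hg
    exact ⟨⟨⟨a, ha⟩, ⟨k, hk⟩⟩, rfl⟩

/-- The index of 2^11:M24. -/
theorem index_Hs : (Hs h).index = 173067389 := by
  have := finite h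
  have h1 := card_mul_index (Hs h)
  rw [card_Hs, h.2] at h1
  omega

theorem exists_sylow_le : ∃ P : Subgroup J, P ≤ Hs h ∧ Nat.card P = 2 ^ 21 := by
  have := finite h
  have := Fact.mk Nat.prime_two
  obtain ⟨P, hP⟩ := Sylow.exists_subgroup_card_pow_prime 2 (G := Hs h) (n := 21)
    (by rw [card_Hs]; norm_num)
  exact ⟨P.map (Hs h).subtype, map_subtype_le _,
    (card_map_of_injective (Hs h).subtype_injective).trans hP⟩

theorem isPGroup_le {L : Subgroup J} (hL : IsPGroup 2 L) : Nat.card L ≤ 2 ^ 21 := by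
  have := finite h
  have := Fact.mk Nat.prime_two
  obtain ⟨k, hk⟩ := IsPGroup.iff_card.1 hL
  have hd := card_subgroup_dvd_card L
  rw [hk, h.2, show (86775571046077562880 : ℕ) = 2 ^ 21 * 41377816699065 by norm_num] at hd
  have := (Nat.Coprime.pow_left k (show Nat.Coprime 2 41377816699065 by norm_num)).dvd_of_dvd_mul_right hd
  rw [hk]
  exact Nat.le_of_dvd (by norm_num) this

theorem centralizer_isPGroup : IsPGroup 2 (centralizer (Vs h.1 : Set J)) := fun a =>
  ⟨1, Subtype.ext (by rw [pow_one, pow_two]; exact centralizer_sq h.1 a.2)⟩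

/-- The normal subgroup is its own centraliser. -/
theorem centralizer_Vs : centralizer (Vs h.1 : Set J) = Vs h.1 := by
  have := finite h
  have := Fact.mk Nat.prime_two
  set C := centralizer (Vs h.1 : Set J) with hC
  have hVC : Vs h.1 ≤ C := by
    intro a ha b hb
    obtain ⟨m, -, rfl⟩ := ha
    obtain ⟨n, -, rfl⟩ := hb
    rw [elV_mul h.1, elV_mul h.1, Nat.xor_comm]
  have hnC : normalizer (Vs h.1 : Set J) ≤ normalizer (C : Set J) := by
    intro g hg
    rw [mem_normalizer_iff] at hg ⊢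
    intro a
    have key : ∀ b, b ∈ C ↔ ∀ c ∈ Vs h.1, c * b = b * c := fun b => Iff.rfl
    rw [key, key]
    constructor
    · intro ha c hc
      have hc' : g⁻¹ * c * g ∈ Vs h.1 := (hg _).2 (by simpa [mul_assoc] using hc)
      calc c * (g * a * g⁻¹) = g * (g⁻¹ * c * g * a) * g⁻¹ := by group
        _ = g * (a * (g⁻¹ * c * g)) * g⁻¹ := by rw [ha _ hc']
        _ = g * a * g⁻¹ * c := by group
    · intro ha c hc
      have h1 := ha _ ((hg c).1 hc)
      calc c * a = g⁻¹ * (g * c * g⁻¹ * (g * a * g⁻¹)) * g := by group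
        _ = g⁻¹ * (g * a * g⁻¹ * (g * c * g⁻¹)) * g := by rw [h1]
        _ = a * c := by group
  obtain ⟨P, hPH, hP⟩ := exists_sylow_le h
  have hPn : P ≤ normalizer (C : Set J) := hPH.trans ((Hs_le_normalizer h).trans hnC)
  have hsup : IsPGroup 2 ↥(P ⊔ C) :=
    IsPGroup.to_sup_of_normal_right' (IsPGroup.of_card hP) (centralizer_isPGroup h) hPn
  have hCH : C ≤ Hs h := by
    have hPeq : P = P ⊔ C := Subgroup.eq_of_le_of_card_ge le_sup_left (by
      rw [hP]; exact isPGroup_le h hsup)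
    exact le_sup_right.trans (hPeq.symm.le.trans hPH)
  refine le_antisymm (fun g hg => ?_) hVC
  obtain ⟨a, ha, k, hk, rfl⟩ := (mem_Hs h).1 (hCH hg)
  have hbot := inf_Ks_eq_bot (A := C) ((Ks_le_normalizer h).trans hnC)
    (not_Ks_le h fun b hb => centralizer_sq h.1 hb)
  have hkC : k ∈ C := by
    have := mul_mem (inv_mem (hVC ha)) hg
    rwa [inv_mul_cancel_left] at this
  have : k = 1 := by
    have hm : k ∈ C ⊓ Ks := ⟨hkC, hk⟩
    rwa [hbot, mem_bot] at hm
  rwa [this, mul_one]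

/-- Nothing but one centralises `x`, `y` and the normal subgroup. -/
theorem eq_one_of_comm {g : J} (hV : g ∈ centralizer (Vs h.1 : Set J)) (hx : Commute g gx)
    (hy : Commute g gy) : g = 1 := by
  rw [centralizer_Vs h] at hV
  obtain ⟨m, hm, rfl⟩ := hV
  have hfix : ∀ m < 2 ^ 11, app aX m = m → app aY m = m → m = 0 := by decide +kernel
  have h0 : m = 0 := by
    refine hfix m hm (elV_inj h.1 (app_aX_lt m) hm ?_) (elV_inj h.1 (app_aY_lt m) hm ?_)
    · rw [← conj_gx h.1 hm, ← hx.eq, mul_inv_cancel_right]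
    · rw [← conj_gy h.1 hm, ← hy.eq, mul_inv_cancel_right]
  rw [h0, elV_zero]

end Cfsg.Agent.J4Out
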