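import Cfsg.Agent.J4Out.SylData
import Cfsg.Agent.J4Out.SylWData
import Cfsg.Agent.J4Out.Data
import Cfsg.Agent.J4Out.Lin

/-! Checks on the Sylow 2-subgroup and the search for elementary abelian subgroups. -/

set_option autoImplicit false

namespace Cfsg.Agent.J4Out

open Cfsg.Agent.CosetCert (force)

/-- An entry of a list in chunks. -/
def get2 {α : Type} (n : Nat) (l : List (List α)) (d : α) (i : Nat) : α :=
  (l.getD (Nat.div i n) []).getD (Nat.mod i n) d

/-- An element. -/
def sM (i : Nat) : List Nat := get2 32 sylS [] i

/-- An involution. -/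
def iM (i : Nat) : List Nat := get2 16 invS [] i

/-- A product with a generator. -/
def sSucc (i j : Nat) : Nat := (get2 32 sylSucc [] i).getD j 0

/-- The bit `i` of a number. -/
def bit (f i : Nat) : Bool := Nat.beq (Nat.land (Nat.shiftRight f i) 1) 1

/-- The product of two commuting involutions. -/
def iProd (i j : Nat) : Nat := Nat.mod (Nat.shiftRight (get2 16 invProd 0 i) (Nat.mul 8 j)) 256

/-- The matrices of the letters on masks. -/
def mA (k : Nat) : List Nat := cond (Nat.beq k 0) aX aY

/-- The generators are the given words. -/
noncomputable def genWB : Bool :=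
  allB (fun j => gate' ((sylW.getD j []).all fun a => Nat.blt a 2)
    (allB (fun k => Nat.beq (frun mA (sylW.getD j []) (Nat.pow 2 k)) ((sylG.getD j []).getD k 0))
      11)) 10
where
  gate' (a b : Bool) : Bool := a && b

/-- Closure under the generators. -/
noncomputable def succB (lo n : Nat) : Bool :=
  allB (fun i => allB (fun j => cond (Nat.blt (sSucc (lo + i) j) 1024)
    (allB (fun k => Nat.beq (fapp (sM (lo + i)) ((sylG.getD j []).getD k 0))
      ((sM (sSucc (lo + i) j)).getD k 0)) 11) false) 10) n

/-- The generators reach every element from the identity. -/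
noncomputable def reachB : Bool :=
  allB (fun k => Nat.beq ((sM 0).getD k 0) (Nat.pow 2 k)) 11 &&
  allB (fun i => cond (Nat.beq i 0) true
    (Nat.blt (Nat.div (get2 32 sylPar 0 i) 16) i && Nat.blt (Nat.mod (get2 32 sylPar 0 i) 16) 10 &&
      Nat.beq (sSucc (Nat.div (get2 32 sylPar 0 i) 16) (Nat.mod (get2 32 sylPar 0 i) 16)) i)) 1024

/-- The code of a matrix. -/
noncomputable def code (M : List Nat) : Nat :=
  Nat.rec (motive := fun _ => Nat) 0 (fun k ih => Nat.add (Nat.mul (M.getD k 0) (Nat.pow 2 (Nat.mul 11 k))) ih) 11

/-- The elements are different. -/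
noncomputable def distinctB : Bool :=
  allB (fun p => Nat.blt (code (sM (get2 32 sylSrt 0 p))) (code (sM (get2 32 sylSrt 0 (p + 1)))))
    1023 &&
  allB (fun i => Nat.blt (get2 32 sylRank 0 i) 1024 &&
    Nat.beq (get2 32 sylSrt 0 (get2 32 sylRank 0 i)) i) 1024

/-- Some column of the square is not a unit vector. -/
noncomputable def notInvB (M : List Nat) : Bool :=
  !(allB (fun k => Nat.beq (fapp M (M.getD k 0)) (Nat.pow 2 k)) 11)

/-- All involutions are listed, and only nontrivial matrices. -/
noncomputable def invListB : Bool :=
  allB (fun i => cond (Nat.blt (get2 32 sylInv 0 i) 191)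
    (allB (fun k => Nat.beq ((iM (get2 32 sylInv 0 i)).getD k 0) ((sM i).getD k 0)) 11)
    (allB (fun k => Nat.beq ((sM i).getD k 0) (Nat.pow 2 k)) 11 || notInvB (sM i))) 1024 &&
  allB (fun i => !(allB (fun k => Nat.beq ((iM i).getD k 0) (Nat.pow 2 k)) 11)) 191

/-- The tables of commuting involutions and their products. -/
noncomputable def tableB (lo n : Nat) : Bool :=
  allB (fun i => allB (fun j =>
    cond (bit (get2 16 invComm 0 (lo + i)) j)
      (cond (Nat.beq (lo + i) j) true (cond (Nat.blt (iProd (lo + i) j) 191)
        (allB (fun k => Nat.beq (fapp (iM (lo + i)) ((iM j).getD k 0))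
          ((iM (iProd (lo + i) j)).getD k 0)) 11) false))
      (!(allB (fun k => Nat.beq (fapp (iM (lo + i)) ((iM j).getD k 0))
        (fapp (iM j) ((iM (lo + i)).getD k 0))) 11))) 191) n

/-- The masks fixed by an involution are recorded. -/
noncomputable def fixB (lo n : Nat) : Bool :=
  allB (fun i => allB (fun m => cond (Nat.beq (fapp (iM (lo + i)) m) m)
    (bit (get2 16 invFix 0 (lo + i)) m) true) 2048) n

/-- An element of a listed subspace. -/
noncomputable def wElt (b : List Nat) (j : Nat) : Nat :=
  xs (fun t => b.getD t 0) (bitsOf j b.length)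

/-- The listed subspaces are nondegenerate and recorded as bits. -/
noncomputable def wB : Bool :=
  allB (fun k => allB (fun n =>
    Nat.beq ((wBasis.getD (k + 1) []).getD n []).length (k + 2) &&
    allB (fun j => cond (Nat.beq j 0) true
      (force (wElt ((wBasis.getD (k + 1) []).getD n []) j) fun e =>
        !(Nat.beq e 0) && Nat.blt e 2048 && bit ((wMask.getD (k + 1) []).getD n 0) e))
      (Nat.pow 2 (k + 2))) (wMask.getD (k + 1) []).length) 6

/-- A listed subspace of the right size meets the set `f` in zero only. -/
noncomputable def avoidB (k f : Nat) : Bool :=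
  List.rec (motive := fun _ => Bool) false
    (fun m _ ih => cond (Nat.beq (Nat.land f m) 1) true ih) (wMask.getD k [])

/-- The new elements after adjoining `i`, each evaluated at once. -/
noncomputable def addElts {β : Sort*} (i : Nat) (L : List Nat) (k : List Nat → β) : β :=
  List.rec (motive := fun _ => (List Nat → β) → β) (fun k => k [i])
    (fun t _ ih k => force (iProd i t) fun p => force t fun t => ih fun r => k (p :: t :: r)) L k

/-- One step of the search. -/
noncomputable def stepB (rec' : List Nat → Nat → Nat → Nat → Bool) (L : List Nat)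
    (cand fix k i : Nat) : Bool :=
  cond (bit cand i)
    (force i fun i => cond (allL (fun t => Nat.blt i (iProd i t)) L)
      (cond (Nat.ble (k + 1) 6)
        (force (Nat.land fix (get2 16 invFix 0 i)) fun f =>
          cond (avoidB (k + 1) f)
            (force (Nat.land (Nat.land cand (get2 16 invComm 0 i))
              (Nat.shiftLeft (Nat.sub (Nat.pow 2 191) 1) (i + 1))) fun c =>
              addElts i L fun L' => force (k + 1) fun k' => rec' L' c f k')
            false)
        false)
      true)
    true

/-- The search below a subgroup, by blocks of eight candidates. -/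
noncomputable def goB : Nat → List Nat → Nat → Nat → Nat → Bool :=
  fun fuel => Nat.rec (motive := fun _ => List Nat → Nat → Nat → Nat → Bool) (fun _ _ _ _ => false)
    (fun _ ih L cand fix k => cond (Nat.beq cand 0) true
      (allB (fun b => force (Nat.mul 8 b) fun o =>
        cond (Nat.beq (Nat.land (Nat.shiftRight cand o) 255) 0) true
          (allB (fun j => cond (Nat.blt (Nat.add o j) 191)
            (stepB ih L cand fix k (Nat.add o j)) true) 8)) 24)) fuel

/-- The whole search. -/
noncomputable def searchB : Bool :=
  goB 7 [] (Nat.sub (Nat.pow 2 191) 1) (Nat.sub (Nat.pow 2 2048) 1) 0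

end Cfsg.Agent.J4Out
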