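import Cfsg.Agent.J4Out.SylDefs
import Cfsg.Agent.J4Out.Norm

/-!
# Reading the tables of the Sylow subgroup of the quotient
-/

set_option autoImplicit false
set_option maxRecDepth 100000

namespace Cfsg.Agent.J4Out

open Cfsg.Agent.J4Rep

theorem app_two_pow : ∀ (C : List Nat) (k : Nat), app C (2 ^ k) = C.getD k 0 := by
  intro C
  induction C with
  | nil => intro k; simp [app_nil]
  | cons c C ih =>
    intro k
    rw [app_cons, Nat.shiftRight_one]
    cases k with
    | zero => simp [app_zero]
    | succ k =>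
      rw [List.getD_cons_succ, ← ih k, show 2 ^ (k + 1) / 2 = 2 ^ k by rw [pow_succ]; omega,
        Nat.testBit_two_pow]
      simp

/-- The additive permutation has the matrix `M`. -/
def Has (σ : linPerms 11) (M : List Nat) : Prop := ∀ v < 2 ^ 11, ap σ v = app M v

theorem has_of_units {σ : linPerms 11} {M : List Nat}
    (hu : ∀ k < 11, ap σ (2 ^ k) = M.getD k 0) : Has σ M := fun _ hv =>
  eq_of_units (ap_xor σ) (app_xor M) (fun k hk => by rw [hu k hk, app_two_pow]) hv

theorem Has.unit {σ : linPerms 11} {M : List Nat} (hσ : Has σ M) {k : Nat} (hk : k < 11) :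
    ap σ (2 ^ k) = M.getD k 0 := by
  rw [hσ _ (Nat.pow_lt_pow_right (by norm_num) hk), app_two_pow]

theorem Has.eq {σ τ : linPerms 11} {M : List Nat} (hσ : Has σ M) (hτ : Has τ M) : σ = τ :=
  eq_of_ap fun v hv => (hσ v hv).trans (hτ v hv).symm

theorem Has.congr {σ : linPerms 11} {M N : List Nat} (hσ : Has σ M)
    (he : ∀ k < 11, M.getD k 0 = N.getD k 0) : Has σ N :=
  has_of_units fun k hk => (hσ.unit hk).trans (he k hk)

theorem has_one {M : List Nat} (hM : ∀ k < 11, M.getD k 0 = 2 ^ k) : Has 1 M :=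
  has_of_units fun k hk => by rw [ap_one (Nat.pow_lt_pow_right (by norm_num) hk), hM k hk]

theorem Has.mul {σ τ : linPerms 11} {M N R : List Nat} (hσ : Has σ M) (hτ : Has τ N)
    (he : ∀ k < 11, fapp M (N.getD k 0) = R.getD k 0) : Has (σ * τ) R :=
  has_of_units fun k hk => by
    rw [ap_mul, hσ _ (ap_lt _ _), hτ.unit hk, ← he k hk, fapp_eq]

theorem bit_eq (f i : Nat) : bit f i = f.testBit i := by
  rw [bit, show Nat.land (Nat.shiftRight f i) 1 = (f >>> i) &&& 1 from rfl, Nat.and_one_is_mod,
    Nat.shiftRight_eq_div_pow, Bool.eq_iff_iff, Nat.beq_eq, Nat.testBit_eq_decide_div_mod_eq,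
    decide_eq_true_iff]

theorem addElts_eq {β : Sort*} (i : Nat) : ∀ (L : List Nat) (k : List Nat → β),
    addElts i L k = k (L.foldr (fun t r => iProd i t :: t :: r) [i]) := by
  intro L
  induction L with
  | nil => intro k; rfl
  | cons t L ih =>
    intro k
    show CosetCert.force (iProd i t) (fun p => CosetCert.force t fun t =>
      addElts i L fun r => k (p :: t :: r)) = _
    rw [CosetCert.force_eq, CosetCert.force_eq, ih]
    rfl

theorem mem_addElts (i : Nat) : ∀ (L : List Nat) (u : Nat),
    u ∈ L.foldr (fun t r => iProd i t :: t :: r) [i] ↔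
      u = i ∨ u ∈ L ∨ ∃ t ∈ L, u = iProd i t := by
  intro L
  induction L with
  | nil => intro u; simp
  | cons t L ih =>
    intro u
    simp only [List.foldr_cons, List.mem_cons, ih, exists_eq_or_imp]
    tauto

end Cfsg.Agent.J4Out
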