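import Cfsg.Agent.J4Out.SylTables
import Cfsg.Agent.J4Out.CheckSyl
import Cfsg.Agent.J4Out.CheckTable
import Cfsg.Agent.J4Out.CheckFix0
import Cfsg.Agent.J4Out.CheckFix1
import Cfsg.Agent.J4Out.CheckSucc
import Cfsg.Agent.J4Out.CheckSearch

/-!
# The elementary abelian subgroups of order 2048 are conjugate

A Sylow 2-subgroup of 2^11:M24 has only one: any other would give an elementary abelian subgroup of
the Sylow subgroup of M24 fixing too many masks.
-/

set_option autoImplicit false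
set_option maxRecDepth 100000

namespace Cfsg.Agent.J4Out

open Cfsg.Agent.J4Rep Subgroup

local notation "J" => Cfsg.Spor.J4

theorem fix_ok {i m : Nat} (hi : i < 191) (hm : m < 2048) (he : app (iM i) m = m) :
    (get2 16 invFix 0 i).testBit m = true := by
  rw [← bit_eq]
  rcases Nat.lt_or_ge i 96 with hlt | hge
  · have h1 := (allB_iff _ _).1 ((allB_iff _ _).1 fix0_ok i hlt) m hm
    rw [Nat.zero_add, fapp_eq, he, Nat.beq_refl, cond_true] at h1
    exact h1
  · have h1 := (allB_iff _ _).1 ((allB_iff _ _).1 fix1_ok (i - 96) (by omega)) m hm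
    rw [show 96 + (i - 96) = i by omega, fapp_eq, he, Nat.beq_refl, cond_true] at h1
    exact h1

theorem iM_ne_one {σ : linPerms 11} {i : Nat} (hi : i < 191) (hσ : Has σ (iM i)) : σ ≠ 1 := by
  intro h1
  have hl := invList_ok
  rw [invListB, Bool.and_eq_true] at hl
  have h2 := (allB_iff _ _).1 hl.2 i hi
  rw [Bool.not_eq_true', ← Bool.not_eq_true] at h2
  refine h2 ((allB_iff _ _).2 fun k hk => ?_)
  rw [← hσ.unit hk, h1, ap_one (Nat.pow_lt_pow_right (by norm_num) hk)]
  exact Nat.beq_refl _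

theorem inv_listed {σ : linPerms 11} {i : Nat} (hi : i < 1024) (hσ : Has σ (sM i))
    (hsq : σ * σ = 1) (hne : σ ≠ 1) : ∃ j < 191, Has σ (iM j) := by
  have hl := invList_ok
  rw [invListB, Bool.and_eq_true] at hl
  have h1 := (allB_iff _ _).1 hl.1 i hi
  cases hlt : Nat.blt (get2 32 sylInv 0 i) 191
  · rw [hlt, cond_false, Bool.or_eq_true] at h1
    rcases h1 with h1 | h1
    · exact absurd (hσ.eq (has_one fun k hk => Nat.eq_of_beq_eq_true ((allB_iff _ _).1 h1 k hk)))
        hne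
    · rw [notInvB, Bool.not_eq_true', ← Bool.not_eq_true] at h1
      refine absurd ((allB_iff _ _).2 fun k hk => ?_) h1
      have hp : 2 ^ k < 2 ^ 11 := Nat.pow_lt_pow_right (by norm_num) hk
      rw [fapp_eq, ← hσ.unit hk, ← hσ _ (ap_lt _ _), ← ap_mul, hsq, ap_one hp]
      exact Nat.beq_refl _
  · rw [hlt, cond_true] at h1
    exact ⟨_, Nat.le_of_ble_eq_true hlt,
      hσ.congr fun k hk => (Nat.eq_of_beq_eq_true ((allB_iff _ _).1 h1 k hk)).symm⟩

theorem table_comm {σ τ : linPerms 11} {i j : Nat} (hi : i < 191) (hj : j < 191)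
    (hσ : Has σ (iM i)) (hτ : Has τ (iM j)) (hc : σ * τ = τ * σ) :
    (get2 16 invComm 0 i).testBit j = true ∧
      (i ≠ j → iProd i j < 191 ∧ Has (σ * τ) (iM (iProd i j))) := by
  have h1 := (allB_iff _ _).1 ((allB_iff _ _).1 table_ok i hi) j hj
  rw [Nat.zero_add] at h1
  cases hb : bit (get2 16 invComm 0 i) j
  · rw [hb, cond_false, Bool.not_eq_true', ← Bool.not_eq_true] at h1
    refine absurd ((allB_iff _ _).2 fun k hk => ?_) h1
    rw [fapp_eq, fapp_eq, ← hτ.unit hk, ← hσ.unit hk, ← hσ _ (ap_lt _ _), ← hτ _ (ap_lt _ _),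
      ← ap_mul, ← ap_mul, hc]
    exact Nat.beq_refl _
  · refine ⟨by rw [← bit_eq, hb], fun hne => ?_⟩
    have hbeq : Nat.beq i j = false := by
      rw [← Bool.not_eq_true]; exact fun h2 => hne (Nat.eq_of_beq_eq_true h2)
    rw [hb, cond_true, hbeq, cond_false] at h1
    cases hlt : Nat.blt (iProd i j) 191
    · rw [hlt, cond_false] at h1; exact absurd h1 (by simp)
    · rw [hlt, cond_true] at h1
      exact ⟨Nat.le_of_ble_eq_true hlt,
        hσ.mul hτ fun k hk => Nat.eq_of_beq_eq_true ((allB_iff _ _).1 h1 k hk)⟩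

theorem avoid_sound {k f : Nat} (hk : 1 ≤ k) (hk6 : k ≤ 6) (hf : avoidB k f = true)
    {F : Finset Nat} (hF : ∀ m ∈ F, f.testBit m = true ∧ m < 2048)
    (hcl : ∀ a ∈ F, ∀ b ∈ F, a ^^^ b ∈ F) : F.card * 2 ^ (k + 1) ≤ 2048 := by
  have hex : ∀ l : List Nat,
      List.rec (motive := fun _ => Bool) false
        (fun m _ ih => cond (Nat.beq (Nat.land f m) 1) true ih) l = true →
      ∃ n < l.length, Nat.land f (l.getD n 0) = 1 := by
    intro l
    induction l with
    | nil => intro h; exact absurd h (by simp)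
    | cons m l ih =>
      intro h
      cases hm : Nat.beq (Nat.land f m) 1
      · simp only [hm, cond_false] at h
        obtain ⟨n, hn, he⟩ := ih h
        exact ⟨n + 1, by simpa using hn, by simpa using he⟩
      · exact ⟨0, by simp, by simpa using Nat.eq_of_beq_eq_true hm⟩
  obtain ⟨n, hn, hland⟩ := hex _ hf
  obtain ⟨k, rfl⟩ : ∃ k', k = k' + 1 := ⟨k - 1, by omega⟩
  have hw := (allB_iff _ _).1 ((allB_iff _ _).1 w_ok k (by omega)) n hn
  rw [Bool.and_eq_true] at hw
  have hlen := Nat.eq_of_beq_eq_true hw.1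
  set b := (wBasis.getD (k + 1) []).getD n []
  have hprop : ∀ j < 2 ^ (k + 2), j ≠ 0 → wElt b j ≠ 0 ∧ wElt b j < 2048 ∧
      ((wMask.getD (k + 1) []).getD n 0).testBit (wElt b j) = true := by
    intro j hj hj0
    have h1 := (allB_iff _ _).1 hw.2 j hj
    have hb : Nat.beq j 0 = false := by
      rw [← Bool.not_eq_true]; exact fun h2 => hj0 (Nat.eq_of_beq_eq_true h2)
    rw [hb, cond_false, CosetCert.force_eq] at h1
    simp only [Bool.and_eq_true, Bool.not_eq_true', bit_eq] at h1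
    exact ⟨fun h0 => by rw [h0] at h1; simp at h1, Nat.le_of_ble_eq_true h1.1.2, h1.2⟩
  have hadd : ∀ i j, wElt b (i ^^^ j) = wElt b i ^^^ wElt b j := by
    intro i j
    unfold wElt
    generalize b.length = l
    induction l with
    | zero => simp [bitsOf, xs_nil]
    | succ l ih =>
      rw [bitsOf_succ, bitsOf_succ, bitsOf_succ, Nat.testBit_xor]
      cases i.testBit l <;> cases j.testBit l <;>
        simp only [Bool.false_bne, Bool.true_bne, Bool.not_false, Bool.not_true, Bool.false_eq_true,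
          if_true, if_false, xs_cons, ih]
      · ac_rfl
      · ac_rfl
      · rw [xor_xor_xor_comm', Nat.xor_self, Nat.zero_xor]
  have hlt : ∀ j < 2 ^ (k + 2), wElt b j < 2048 := by
    intro j hj
    rcases eq_or_ne j 0 with rfl | hj0
    · have h0 := hadd 0 0
      rw [Nat.xor_self, Nat.xor_self] at h0
      rw [h0]; norm_num
    · exact (hprop j hj hj0).2.1
  refine le_trans (le_of_eq ?_) (Finset.card_le_card_of_injOn
    (s := F ×ˢ Finset.range (2 ^ (k + 2))) (t := Finset.range 2048)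
    (fun p => p.1 ^^^ wElt b p.2) ?_ ?_ |>.trans (Finset.card_range _).le)
  · rw [Finset.card_product, Finset.card_range]
  · intro p hp
    rw [Finset.mem_coe, Finset.mem_product, Finset.mem_range] at hp
    rw [Finset.mem_coe, Finset.mem_range]
    exact Nat.xor_lt_two_pow (n := 11) (hF _ hp.1).2 (hlt _ hp.2)
  · intro p hp q hq hpq
    rw [Finset.mem_coe, Finset.mem_product, Finset.mem_range] at hp hq
    have he : p.1 ^^^ q.1 = wElt b (p.2 ^^^ q.2) := by
      rw [hadd]
      have := congrArg (fun z => z ^^^ q.1 ^^^ wElt b p.2) hpq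
      simp only at this
      calc p.1 ^^^ q.1 = p.1 ^^^ wElt b p.2 ^^^ q.1 ^^^ wElt b p.2 := by
            rw [Nat.xor_assoc p.1, Nat.xor_comm (wElt b p.2), ← Nat.xor_assoc p.1,
              Nat.xor_assoc, Nat.xor_self, Nat.xor_zero]
        _ = q.1 ^^^ wElt b q.2 ^^^ q.1 ^^^ wElt b p.2 := this
        _ = wElt b p.2 ^^^ wElt b q.2 := by
            rw [Nat.xor_assoc q.1, Nat.xor_comm (wElt b q.2), ← Nat.xor_assoc, Nat.xor_self,
              Nat.zero_xor, Nat.xor_comm]
    have h2 : p.2 ^^^ q.2 = 0 := by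
      by_contra h0
      obtain ⟨hne, -, hbit⟩ := hprop _ (Nat.xor_lt_two_pow hp.2 hq.2) h0
      have h3 : (Nat.land f ((wMask.getD (k + 1) []).getD n 0)).testBit (wElt b (p.2 ^^^ q.2)) =
          true := by
        show (f &&& _).testBit _ = true
        rw [Nat.testBit_and, hbit, ← he, (hF _ (hcl _ hp.1 _ hq.1)).1]
        rfl
      rw [hland, show (1 : Nat) = 2 ^ 0 from rfl, Nat.testBit_two_pow] at h3
      exact hne (of_decide_eq_true h3).symm
    have h2' : p.2 = q.2 := Nat.xor_eq_zero_iff.1 h2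
    have h4 : p.1 ^^^ q.1 = 0 := by
      rw [he, h2]
      have h0 := hadd 0 0
      rwa [Nat.xor_self, Nat.xor_self] at h0
    exact Prod.ext (Nat.xor_eq_zero_iff.1 h4) h2'

/-- What the search carries. -/
structure Node (A : Subgroup (linPerms 11)) (F : Finset Nat) (k : Nat) (L : List Nat)
    (cand fix : Nat) (Q : Finset (linPerms 11)) : Prop where
  sub : ∀ σ ∈ Q, σ ∈ A
  one : 1 ∈ Q
  mul : ∀ σ ∈ Q, ∀ τ ∈ Q, σ * τ ∈ Q
  card : Q.card = 2 ^ k
  rep : ∀ σ ∈ Q, σ ≠ 1 → ∃ t ∈ L, Has σ (iM t)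
  back : ∀ t ∈ L, t < 191 ∧ ∃ σ ∈ Q, Has σ (iM t)
  open_ : ∀ i < 191, ∀ σ ∈ A, σ ∉ Q → Has σ (iM i) → cand.testBit i = true
  low : cand < 2 ^ 191
  fixed : ∀ m ∈ F, fix.testBit m = true
  small : k = 0 ∨ (k ≤ 6 ∧ avoidB k fix = true)

theorem goB_sound {A : Subgroup (linPerms 11)} {F : Finset Nat}
    (hA : ∀ σ ∈ A, σ * σ = 1) (hc : ∀ σ ∈ A, ∀ τ ∈ A, σ * τ = τ * σ)
    (hrep : ∀ σ ∈ A, σ ≠ 1 → ∃ i < 191, Has σ (iM i))
    (hF : ∀ m ∈ F, m < 2048 ∧ ∀ σ ∈ A, ap σ m = m)
    (hcl : ∀ a ∈ F, ∀ b ∈ F, a ^^^ b ∈ F) :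
    ∀ (fuel k : Nat) (L : List Nat) (cand fix : Nat) (Q : Finset (linPerms 11)),
      goB fuel L cand fix k = true → fuel + k = 7 → Node A F k L cand fix Q →
        Nat.card A = 1 ∨ F.card * Nat.card A ≤ 1024 := by
  classical
  intro fuel
  induction fuel with
  | zero => intro k L cand fix Q h; exact absurd h (by simp [goB])
  | succ fuel ih =>
    intro k L cand fix Q hgo hk hN
    by_cases hall : ∀ σ ∈ A, σ ∈ Q
    · have hcard : Nat.card A = 2 ^ k := by
        rw [← hN.card, Nat.subtype_card Q]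
        exact fun σ => ⟨hN.sub σ, hall σ⟩
      rcases hN.small with rfl | ⟨hk6, hav⟩
      · exact Or.inl hcard
      · rcases Nat.eq_zero_or_pos k with rfl | hpos
        · exact Or.inl hcard
        · right
          have := avoid_sound hpos hk6 hav
            (fun m hm => ⟨hN.fixed m hm, (hF m hm).1⟩) hcl
          rw [hcard]
          rw [pow_succ, ← mul_assoc] at this
          omega
    push_neg at hall
    have hex : ∃ i, i < 191 ∧ ∃ σ ∈ A, σ ∉ Q ∧ Has σ (iM i) := by
      obtain ⟨σ, hσA, hσQ⟩ := hall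
      obtain ⟨i, hi, hσ⟩ := hrep σ hσA fun h1 => hσQ (h1 ▸ hN.one)
      exact ⟨i, hi, σ, hσA, hσQ, hσ⟩
    obtain ⟨hi, σ, hσA, hσQ, hσ⟩ := Nat.find_spec hex
    set i := Nat.find hex with hidef
    have hmin : ∀ j < 191, ∀ τ ∈ A, τ ∉ Q → Has τ (iM j) → i ≤ j := fun j hj τ hτA hτQ hτ =>
      Nat.find_min' hex ⟨hj, τ, hτA, hτQ, hτ⟩
    have hbit := hN.open_ i hi σ hσA hσQ hσ
    have hprod : ∀ t ∈ L, ∀ τ ∈ Q, Has τ (iM t) →
        iProd i t < 191 ∧ Has (σ * τ) (iM (iProd i t)) ∧ σ * τ ∉ Q ∧ i < iProd i t := by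
      intro t ht τ hτQ hτ
      have ht1 := (hN.back t ht).1
      have hne : i ≠ t := fun h1 => hσQ ((hσ.eq (h1 ▸ hτ)) ▸ hτQ)
      obtain ⟨hlt, hp⟩ := (table_comm hi ht1 hσ hτ (hc _ hσA _ (hN.sub _ hτQ))).2 hne
      have hnq : σ * τ ∉ Q := fun h1 => hσQ (by
        have := hN.mul _ h1 _ hτQ
        rwa [mul_assoc, hA _ (hN.sub _ hτQ), mul_one] at this)
      refine ⟨hlt, hp, hnq, lt_of_le_of_ne
        (hmin _ hlt _ (mul_mem hσA (hN.sub _ hτQ)) hnq hp) fun h1 => ?_⟩
      have h2 : σ = σ * τ := by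
        rw [← h1] at hp
        exact hσ.eq hp
      exact iM_ne_one ht1 hτ (mul_eq_left.1 h2.symm)
    -- unfold the step
    change cond (Nat.beq cand 0) true (allB _ 24) = true at hgo
    have hc0 : Nat.beq cand 0 = false := by
      rw [← Bool.not_eq_true]
      intro h0
      rw [Nat.eq_of_beq_eq_true h0, Nat.zero_testBit] at hbit
      exact absurd hbit (by simp)
    rw [hc0, cond_false] at hgo
    have h1 := (allB_iff _ _).1 hgo (i / 8) (by omega)
    rw [CosetCert.force_eq] at h1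
    have hblock : Nat.beq (Nat.land (Nat.shiftRight cand (Nat.mul 8 (i / 8))) 255) 0 = false := by
      rw [← Bool.not_eq_true]
      intro h0
      have h2 : ((cand >>> (8 * (i / 8))) &&& 255).testBit (i % 8) = true := by
        rw [Nat.testBit_and, Nat.testBit_shiftRight, show 8 * (i / 8) + i % 8 = i by omega, hbit,
          show (255 : Nat) = 2 ^ 8 - 1 by norm_num, Nat.testBit_two_pow_sub_one,
          decide_eq_true (by omega)]
        rfl
      rw [show ((cand >>> (8 * (i / 8))) &&& 255) = 0 from Nat.eq_of_beq_eq_true h0,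
        Nat.zero_testBit] at h2
      exact absurd h2 (by simp)
    rw [hblock, cond_false] at h1
    have h2 := (allB_iff _ _).1 h1 (i % 8) (by omega)
    rw [show Nat.add (Nat.mul 8 (i / 8)) (i % 8) = i from Nat.div_add_mod i 8,
      show Nat.blt i 191 = true from Nat.ble_eq_true_of_le hi, cond_true, stepB, bit_eq, hbit,
      cond_true, CosetCert.force_eq] at h2
    have hminB : allL (fun t => Nat.blt i (iProd i t)) L = true :=
      (allL_iff _ _).2 fun t ht => by
        obtain ⟨τ, hτQ, hτ⟩ := (hN.back t ht).2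
        exact Nat.ble_eq_true_of_le (hprod t ht τ hτQ hτ).2.2.2
    rw [hminB, cond_true] at h2
    cases hk6 : Nat.ble (k + 1) 6
    · rw [hk6, cond_false] at h2; exact absurd h2 (by simp)
    rw [hk6, cond_true, CosetCert.force_eq] at h2
    cases hav : avoidB (k + 1) (Nat.land fix (get2 16 invFix 0 i))
    · rw [hav, cond_false] at h2; exact absurd h2 (by simp)
    rw [hav, cond_true, CosetCert.force_eq, addElts_eq, CosetCert.force_eq] at h2
    refine ih (k + 1) _ _ _ (Q ∪ Q.image (σ * ·)) h2 (by omega) ?_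
    refine ⟨?_, Finset.mem_union_left _ hN.one, ?_, ?_, ?_, ?_, ?_, ?_, ?_,
      Or.inr ⟨Nat.le_of_ble_eq_true hk6, hav⟩⟩
    · intro τ hτ
      rcases Finset.mem_union.1 hτ with hτ | hτ
      · exact hN.sub τ hτ
      · obtain ⟨ρ, hρ, rfl⟩ := Finset.mem_image.1 hτ
        exact mul_mem hσA (hN.sub ρ hρ)
    · intro τ hτ ρ hρ
      rcases Finset.mem_union.1 hτ with hτ | hτ <;> rcases Finset.mem_union.1 hρ with hρ | hρ
      · exact Finset.mem_union_left _ (hN.mul _ hτ _ hρ)
      · obtain ⟨ρ', hρ', rfl⟩ := Finset.mem_image.1 hρ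
        refine Finset.mem_union_right _ (Finset.mem_image.2 ⟨τ * ρ', hN.mul _ hτ _ hρ', ?_⟩)
        rw [← mul_assoc, ← mul_assoc, hc _ hσA _ (hN.sub _ hτ)]
      · obtain ⟨τ', hτ', rfl⟩ := Finset.mem_image.1 hτ
        exact Finset.mem_union_right _
          (Finset.mem_image.2 ⟨τ' * ρ, hN.mul _ hτ' _ hρ, (mul_assoc _ _ _).symm⟩)
      · obtain ⟨τ', hτ', rfl⟩ := Finset.mem_image.1 hτ
        obtain ⟨ρ', hρ', rfl⟩ := Finset.mem_image.1 hρ
        refine Finset.mem_union_left _ ?_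
        rw [show σ * τ' * (σ * ρ') = σ * (τ' * σ) * ρ' by simp only [mul_assoc],
          ← hc _ hσA _ (hN.sub _ hτ'), ← mul_assoc, hA _ hσA, one_mul]
        exact hN.mul _ hτ' _ hρ'
    · rw [Finset.card_union_of_disjoint, Finset.card_image_of_injective _ (mul_right_injective σ),
        hN.card, pow_succ, mul_two]
      rw [Finset.disjoint_left]
      intro τ hτ hτ'
      obtain ⟨ρ, hρ, rfl⟩ := Finset.mem_image.1 hτ'
      refine hσQ ?_
      have := hN.mul _ hτ _ hρ
      rwa [mul_assoc, hA _ (hN.sub _ hρ), mul_one] at this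
    · intro τ hτ hτ1
      rcases Finset.mem_union.1 hτ with hτ | hτ
      · obtain ⟨t, ht, htH⟩ := hN.rep τ hτ hτ1
        exact ⟨t, (mem_addElts _ _ _).2 (Or.inr (Or.inl ht)), htH⟩
      · obtain ⟨ρ, hρ, rfl⟩ := Finset.mem_image.1 hτ
        rcases eq_or_ne ρ 1 with rfl | hρ1
        · exact ⟨i, (mem_addElts _ _ _).2 (Or.inl rfl), by rw [mul_one]; exact hσ⟩
        · obtain ⟨t, ht, htH⟩ := hN.rep ρ hρ hρ1
          exact ⟨_, (mem_addElts _ _ _).2 (Or.inr (Or.inr ⟨t, ht, rfl⟩)),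
            (hprod t ht ρ hρ htH).2.1⟩
    · intro t ht
      rcases (mem_addElts _ _ _).1 ht with rfl | ht | ⟨s, hs, rfl⟩
      · exact ⟨hi, σ, Finset.mem_union_right _
          (Finset.mem_image.2 ⟨1, hN.one, mul_one σ⟩), hσ⟩
      · obtain ⟨ht1, τ, hτ, hτH⟩ := hN.back t ht
        exact ⟨ht1, τ, Finset.mem_union_left _ hτ, hτH⟩
      · obtain ⟨-, τ, hτ, hτH⟩ := hN.back s hs
        exact ⟨(hprod s hs τ hτ hτH).1, σ * τ,
          Finset.mem_union_right _ (Finset.mem_image.2 ⟨τ, hτ, rfl⟩), (hprod s hs τ hτ hτH).2.1⟩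
    · intro j hj τ hτA hτQ hτ
      have hτQ' : τ ∉ Q := fun h1 => hτQ (Finset.mem_union_left _ h1)
      have hle := hmin j hj τ hτA hτQ' hτ
      have hne : i ≠ j := fun h1 => hτQ (Finset.mem_union_right _
        (Finset.mem_image.2 ⟨1, hN.one, (mul_one σ).trans (hσ.eq (h1 ▸ hτ))⟩))
      show ((cand &&& _) &&& ((2 ^ 191 - 1) <<< (i + 1))).testBit j = true
      rw [Nat.testBit_and, Nat.testBit_and, hN.open_ j hj τ hτA hτQ' hτ,
        (table_comm hi hj hσ hτ (hc _ hσA _ hτA)).1, Nat.testBit_shiftLeft,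
        Nat.testBit_two_pow_sub_one, decide_eq_true (show j ≥ i + 1 by omega),
        decide_eq_true (show j - (i + 1) < 191 by omega)]
      rfl
    · exact lt_of_le_of_lt (Nat.and_le_left.trans Nat.and_le_left) hN.low
    · intro m hm
      show (fix &&& _).testBit m = true
      rw [Nat.testBit_and, hN.fixed m hm, fix_ok hi (hF m hm).1
        ((hσ m (hF m hm).1).symm.trans ((hF m hm).2 σ hσA))]
      rfl

end Cfsg.Agent.J4Out
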